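import Cfsg.Agent.Lib.SuzCent37.Model

/-!
# Suzuki type: coordinates in which an element of order three with a quaternion commutator is `rot0`

Owner: helper37.
-/

set_option autoImplicit false

namespace Cfsg.Agent.Lib.SuzCent37

open Cfsg.Agent.Lib.SuzType52

theorem bn_self : ∀ k < 64, bn k k = false := by decide +kernel

theorem bn_zero_left : ∀ k < 64, bn 0 k = false := by decide +kernel

theorem refl_iso_gen {v : ℕ} (hv : v < 64) (hq : qn v = true ∨ v = 0) :
    Iso6 (refl v) ∧ ∀ k < 64, refl v (refl v k) = k := by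
  refine ⟨⟨fun k hk => ?_, fun j hj k hk => ?_, fun k hk => ?_⟩, fun k hk => ?_⟩
  · rw [SuzType52.refl]
    cases bn v k
    · exact hk
    · exact xor_lt hk hv
  · simp only [SuzType52.refl, bn_add hv hj hk]
    cases bn v j <;> cases bn v k <;>
      simp [Nat.xor_assoc, Nat.xor_comm, Nat.xor_left_comm]
  · rw [SuzType52.refl]
    cases hb : bn v k with
    | false => rfl
    | true =>
      rcases hq with hq | rfl
      · rw [bn, Nat.xor_comm, hq] at hb
        show qn (k ^^^ v) = qn k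
        revert hb
        cases qn (k ^^^ v) <;> cases qn k <;> decide
      · rw [bn_zero_left k hk] at hb
        cases hb
  · simp only [SuzType52.refl]
    cases hb : bn v k with
    | false => simp [hb]
    | true =>
      simp only [cond_true]
      rw [bn_add hv hk hv, hb, bn_self v hv]
      simp [Nat.xor_assoc]

/-- A map and its inverse. -/
structure Iso6Pair (g g' : ℕ → ℕ) : Prop where
  left : Iso6 g
  right : Iso6 g'
  inv₁ : ∀ k < 64, g (g' k) = k
  inv₂ : ∀ k < 64, g' (g k) = k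

theorem Iso6Pair.comp {f f' g g' : ℕ → ℕ} (hf : Iso6Pair f f') (hg : Iso6Pair g g') :
    Iso6Pair (fun k => f (g k)) fun k => g' (f' k) :=
  ⟨hf.left.comp hg.left, hg.right.comp hf.right,
    fun k hk => by show f (g (g' (f' k))) = k; rw [hg.inv₁ _ (hf.right.lt k hk), hf.inv₁ k hk],
    fun k hk => by show g' (f' (f (g k))) = k; rw [hf.inv₂ _ (hg.left.lt k hk), hg.inv₂ k hk]⟩

theorem refl_iso_pair {v : ℕ} (hv : v ∈ nsv) : Iso6Pair (refl v) (refl v) := by
  obtain ⟨h1, h2⟩ := refl_iso_gen (nsv_spec v hv).1 (nsv_spec v hv).2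
  exact ⟨h1, h1, h2, h2⟩

theorem exists_move {p q : ℕ} (hp : p < 64) (hq : q < 64) (hqp : qn p = true) (hqq : qn q = true)
    (hb : bn p q = true) : ∃ g g', Iso6Pair g g' ∧ g p = 16 ∧ g q = 32 := by
  obtain ⟨a, ha, b, hb', e⟩ := first_step p hp hqp
  have h1 := (refl_iso_pair ha).comp (refl_iso_pair hb')
  obtain ⟨c, hc, d, hd, e1, e2⟩ := second_step (refl a (refl b q)) (h1.left.lt q hq)
    ((h1.left.pres q hq).trans hqq) (by rw [← e, ← hb]; exact h1.left.bn_eq hp hq)
  refine ⟨_, _, ((refl_iso_pair hc).comp (refl_iso_pair hd)).comp h1, ?_, e2⟩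
  show refl c (refl d (refl a (refl b p))) = 16
  rw [e, e1]

theorem refl_map {g g' : ℕ → ℕ} (h : Iso6Pair g g') {v k : ℕ} (hv : v < 64) (hk : k < 64) :
    g (refl v k) = refl (g v) (g k) := by
  simp only [SuzType52.refl, h.left.bn_eq hv hk]
  cases bn v k
  · rfl
  · exact h.left.add k hk v hv

/-- A member of the plane spanned by `a, b`. -/
def InW (a b w : ℕ) : Prop := w = 0 ∨ w = a ∨ w = b ∨ w = a ^^^ b

theorem inW_third {a b x y u : ℕ} (hx : InW a b x) (hy : InW a b y) (hu : InW a b u)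
    (hx0 : x ≠ 0) (hy0 : y ≠ 0) (hu0 : u ≠ 0) (hxy : x ≠ y) (hxu : u ≠ x) (hyu : u ≠ y) :
    u = x ^^^ y := by
  rcases hx with rfl | rfl | rfl | rfl <;> rcases hy with rfl | rfl | rfl | rfl <;>
    rcases hu with rfl | rfl | rfl | rfl <;>
    simp_all [Nat.xor_comm, Nat.xor_left_comm]

theorem inW_bn {a b x y : ℕ} (ha : a < 64) (hb : b < 64) (hab : bn a b = true) (hx : InW a b x)
    (hy : InW a b y) (hx0 : x ≠ 0) (hy0 : y ≠ 0) (hxy : x ≠ y) : bn x y = true := by
  have h1 : bn a (a ^^^ b) = true := by rw [bn_add ha ha hb, bn_self a ha, hab]; rfl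
  have h2 : bn b (a ^^^ b) = true := by rw [bn_add hb ha hb, bn_self b hb, bn_comm b a, hab]; rfl
  rcases hx with rfl | rfl | rfl | rfl <;> rcases hy with rfl | rfl | rfl | rfl <;>
    first
      | exact absurd rfl hx0 | exact absurd rfl hy0 | exact absurd rfl hxy
      | exact hab | exact h1 | exact h2
      | (rw [bn_comm]; first | exact hab | exact h1 | exact h2)

/-- An element of order three moving everything along one plane is `rot0` in suitable coordinates. -/
theorem exists_rot {f : ℕ → ℕ} (hf : Iso6 f) (h3 : ∀ k < 64, f (f (f k)) = k)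
    (hne : ∃ k < 64, f k ≠ k) {a b : ℕ} (ha : a < 64) (hb : b < 64) (hab : bn a b = true)
    (hW : ∀ k < 64, InW a b (k ^^^ f k)) :
    ∃ g g', Iso6Pair g g' ∧ ∀ k < 64, g (f (g' k)) = rot0 k := by
  have hfix : ∀ k < 64, f (k ^^^ f k) = k ^^^ f k → k ^^^ f k = 0 := fun k hk e => by
    have e1 : f (f k) = k := by
      rw [hf.add k hk _ (hf.lt k hk), Nat.xor_comm k] at e
      exact Nat.xor_right_inj.1 e
    have e2 := h3 k hk
    rw [e1] at e2
    rw [e2, Nat.xor_self]
  obtain ⟨k₀, hk₀, hk0⟩ := hne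
  set w₁ := k₀ ^^^ f k₀ with hw₁
  have hk1 := hf.lt k₀ hk₀
  have hk2 := hf.lt _ hk1
  have l1 : w₁ < 64 := xor_lt hk₀ hk1
  have n1 : w₁ ≠ 0 := fun e => hk0 (Nat.eq_of_xor_eq_zero e).symm
  have e2 : f w₁ = f k₀ ^^^ f (f k₀) := hf.add k₀ hk₀ _ hk1
  set w₂ := f w₁ with hw₂
  have l2 : w₂ < 64 := hf.lt _ l1
  set w₃ := f w₂ with hw₃
  have l3 : w₃ < 64 := hf.lt _ l2
  have e3 : f w₃ = w₁ := h3 _ l1
  have n12 : w₁ ≠ w₂ := fun e => n1 (hfix k₀ hk₀ e.symm)
  have n2 : w₂ ≠ 0 := fun e => n1 (by rw [← e3, hw₃, e, hf.zero, hf.zero])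
  have n3 : w₃ ≠ 0 := fun e => n1 (by rw [← e3, e, hf.zero])
  have n31 : w₃ ≠ w₁ := fun e => n12 (e3.symm.trans (congrArg f e))
  have n32 : w₃ ≠ w₂ := fun e => n31 (e3.symm.trans (congrArg f e)).symm
  have i1 : InW a b w₁ := hW k₀ hk₀
  have i2 : InW a b w₂ := by rw [e2]; exact hW _ hk1
  have i3 : InW a b w₃ := by rw [hw₃, e2, hf.add _ hk1 _ hk2]; exact hW _ hk2
  have h12 := inW_bn ha hb hab i1 i2 n1 n2 n12
  have h23 := inW_bn ha hb hab i2 i3 n2 n3 n32.symm
  have e12 : w₃ = w₁ ^^^ w₂ := inW_third i1 i2 i3 n1 n2 n3 n12 n31 n32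
  have q2 : qn w₂ = qn w₁ := hf.pres _ l1
  have q3 : qn w₃ = qn w₂ := hf.pres _ l2
  have q1 : qn w₁ = true := by
    have h := h12
    rw [bn, ← e12, q3, q2] at h
    revert h
    cases qn w₁ <;> decide
  obtain ⟨g, g', hg, g1, g2⟩ := exists_move l1 l2 q1 (q2.trans q1) h12
  refine ⟨g, g', hg, ?_⟩
  have perp : ∀ k < 64, bn k w₁ = false → bn k w₂ = false → f k = k := fun k hk p1 p2 => by
    have p3 : bn k w₃ = false := by rw [e12, bn_add hk l1 l2, p1, p2]; rfl
    have r2 : bn (f k) w₂ = false := by rw [hw₂, hf.bn_eq hk l1, p1]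
    have r3 : bn (f k) w₃ = false := by rw [hw₃, hf.bn_eq hk l2, p2]
    have hu := hW k hk
    have lu := xor_lt hk (hf.lt k hk)
    have s2 : bn (k ^^^ f k) w₂ = false := by
      rw [bn_comm, bn_add l2 hk (hf.lt k hk), bn_comm w₂, bn_comm w₂, p2, r2]; rfl
    have s3 : bn (k ^^^ f k) w₃ = false := by
      rw [bn_comm, bn_add l3 hk (hf.lt k hk), bn_comm w₃, bn_comm w₃, p3, r3]; rfl
    refine (Nat.eq_of_xor_eq_zero ?_).symm
    by_contra h0
    rcases eq_or_ne (k ^^^ f k) w₂ with e | e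
    · rw [e, h23] at s3; cases s3
    · rw [inW_bn ha hb hab hu i2 h0 n2 e] at s2; cases s2
  have hF : Iso6 fun k => g (f (g' k)) := hg.left.comp (hf.comp hg.right)
  have g16 : g' 16 = w₁ := by rw [← g1, hg.inv₂ _ l1]
  have g32 : g' 32 = w₂ := by rw [← g2, hg.inv₂ _ l2]
  have low : ∀ j < 16, g (f (g' j)) = j := fun j hj => by
    obtain ⟨b1, b2⟩ := rot0_basis j hj
    have hj' : j < 64 := by omega
    rw [perp _ (hg.right.lt j hj') (by rw [← g16, hg.right.bn_eq hj' (by norm_num), b1])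
      (by rw [← g32, hg.right.bn_eq hj' (by norm_num), b2]), hg.inv₁ j hj']
  have t16 : g (f (g' 16)) = 32 := by rw [g16, ← hw₂, g2]
  have t32 : g (f (g' 32)) = 48 := by
    rw [g32, ← hw₃, e12, hg.left.add _ l1 _ l2, g1, g2]
    rfl
  intro k hk
  rw [← hF.lin_eq hk]
  show lin (g (f (g' 1))) (g (f (g' 2))) (g (f (g' 4))) (g (f (g' 8))) (g (f (g' 16)))
    (g (f (g' 32))) k = _
  rw [low 1 (by norm_num), low 2 (by norm_num), low 4 (by norm_num), low 8 (by norm_num), t16, t32]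
  rfl

variable {G : Type*} [Group G] {z : G} {Q : Subgroup G} {co : G → ℕ} {ac : G → ℕ → ℕ}

/-- Change of coordinates. -/
theorem frame_map (h : Frame z Q co ac) {g g' : ℕ → ℕ} (hg : Iso6Pair g g') :
    Frame z Q (fun q => g (co q)) fun c k => g (ac c (g' k)) := by
  constructor
  · exact h.ord
  · exact h.es
  · exact h.cent
  · exact h.norm
  · exact h.card
  · exact fun q hq => hg.left.lt _ (h.co_lt q hq)
  · intro q hq r hr
    rw [h.co_mul q hq r hr, hg.left.add _ (h.co_lt q hq) _ (h.co_lt r hr)]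
  · intro q hq e
    refine h.co_zero q hq ?_
    rw [← hg.inv₂ _ (h.co_lt q hq), show g (co q) = 0 from e, hg.right.zero]
  · intro k hk
    obtain ⟨q, hq, e⟩ := h.co_surj (g' k) (hg.right.lt k hk)
    exact ⟨q, hq, by rw [e, hg.inv₁ k hk]⟩
  · intro q hq
    rw [hg.left.pres _ (h.co_lt q hq)]
    exact h.sq q hq
  · intro c hc q hq
    rw [hg.inv₂ _ (h.co_lt q hq), h.conj c hc q hq]
  · intro c hc hk
    refine h.faithful c hc fun k hk' => ?_
    have := congrArg g' (hk (g k) (hg.left.lt k hk'))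
    rwa [hg.inv₂ k hk', hg.inv₂ _ (h.ac_lt hc hk')] at this
  · intro v hv w hw qv qw
    obtain ⟨c, hc, hck⟩ := h.exists_pair (g' v) (hg.right.lt v hv) (g' w) (hg.right.lt w hw)
      ((hg.right.pres v hv).trans qv) ((hg.right.pres w hw).trans qw)
    refine ⟨c, hc, fun k hk => ?_⟩
    have hv' := hg.right.lt v hv
    have hw' := hg.right.lt w hw
    have hk' := hg.right.lt k hk
    have h1 := (refl_iso_gen hw' (Or.inl ((hg.right.pres w hw).trans qw))).1
    rw [hck _ hk', pr, refl_map hg hv' (h1.lt _ hk'), refl_map hg hw' hk', hg.inv₁ v hv,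
      hg.inv₁ w hw, hg.inv₁ k hk]
    rfl
  · intro c hc v hv qv hall
    refine h.not_refl c hc (g' v) (hg.right.lt v hv) ((hg.right.pres v hv).trans qv) fun k hk => ?_
    have hr := refl_iso_gen (hg.right.lt v hv) (Or.inl ((hg.right.pres v hv).trans qv))
    have := hall (g k) (hg.left.lt k hk)
    rw [hg.inv₂ k hk] at this
    conv_rhs at this => rw [← hg.inv₁ v hv, ← refl_map hg (hg.right.lt v hv) hk]
    have h2 := congrArg g' this
    rwa [hg.inv₂ _ (h.ac_lt hc hk), hg.inv₂ _ (hr.1.lt k hk)] at h2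

/-- Coordinates in which `y` is `rot0`, from a quaternion group containing the commutators of `y`. -/
theorem exists_frame_rot (h : Frame z Q co ac) {y : G} (hy : Commute y z) (hy3 : y ^ 3 = 1)
    (hy1 : y ≠ 1) {A : Subgroup G} [Finite A] (hAQ : A ≤ Q) (hA : Nat.card A = 8)
    (hAn : ∃ a ∈ A, ∃ b ∈ A, ¬ Commute a b)
    (hcom : ∀ q ∈ Q, q * y * q⁻¹ * y⁻¹ ∈ A) :
    ∃ (co' : G → ℕ) (ac' : G → ℕ → ℕ), Frame z Q co' ac' ∧ ∀ k < 64, ac' y k = rot0 k := by
  obtain ⟨a, ha, b, hb, hab⟩ := hAn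
  have hbn : bn (co a) (co b) = true := by
    rw [h.commute_Q (hAQ ha) (hAQ hb)] at hab
    simpa using hab
  have hzA : z ∈ A := by
    have e := h.comm_Q (hAQ ha) (hAQ hb)
    rw [hbn] at e
    have h' : b⁻¹ * (a * b * a⁻¹) ∈ A := mul_mem (inv_mem hb) (mul_mem (mul_mem ha hb) (inv_mem ha))
    rwa [e, inv_mul_cancel_left] at h'
  have la := h.co_lt a (hAQ ha)
  have lb := h.co_lt b (hAQ hb)
  let φ : Bool × Bool × Bool → A := fun t => ⟨pw a t.1 * pw b t.2.1 * pw z t.2.2, by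
    have hm : ∀ {g : G}, g ∈ A → ∀ t, pw g t ∈ A := fun {g} hg t => by
      cases t
      · exact one_mem A
      · exact hg
    exact mul_mem (mul_mem (hm ha _) (hm hb _)) (hm hzA _)⟩
  have hco : ∀ t, co (φ t : G) = (bif t.1 then co a else 0) ^^^ (bif t.2.1 then co b else 0) := by
    rintro ⟨i, j, l⟩
    cases i <;> cases j <;> cases l <;>
      simp [φ, pw, h.co_one, h.co_z, h.co_mul a (hAQ ha) b (hAQ hb), h.co_mul a (hAQ ha) z h.es.mem,
        h.co_mul b (hAQ hb) z h.es.mem,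
        h.co_mul _ (mul_mem (hAQ ha) (hAQ hb)) z h.es.mem]
  have hinj : Function.Injective φ := by
    rintro ⟨i, j, l⟩ ⟨i', j', l'⟩ e
    have e' := congrArg (fun x : A => co (x : G)) e
    simp only [hco] at e'
    have ha0 : co a ≠ 0 := fun e0 => by rw [e0, bn_zero_left _ lb] at hbn; cases hbn
    have hb0 : co b ≠ 0 := fun e0 => by rw [e0, bn_comm, bn_zero_left _ la] at hbn; cases hbn
    have hab0 : co a ≠ co b := fun e0 => by rw [e0, bn_self _ lb] at hbn; cases hbn
    have hab1 : co a ^^^ co b ≠ 0 := fun e0 => hab0 (Nat.eq_of_xor_eq_zero e0)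
    have hab2 : co a ^^^ co b ≠ co a := fun e0 => hb0 (Nat.xor_right_inj.1 (e0.trans (Nat.xor_zero _).symm))
    have hab3 : co a ^^^ co b ≠ co b := fun e0 => ha0 (Nat.xor_left_inj.1 (e0.trans (Nat.zero_xor _).symm))
    have hij : i = i' ∧ j = j' := by
      cases i <;> cases j <;> cases i' <;> cases j' <;>
        simp [eq_comm, ha0, hb0, hab0, hab1, hab2, hab3, ha0.symm, hb0.symm, hab0.symm, hab1.symm,
          hab2.symm, hab3.symm] at e' ⊢
    obtain ⟨rfl, rfl⟩ := hij
    have hl : pw z l = pw z l' := mul_left_cancel (congrArg (Subtype.val (p := (· ∈ A))) e)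
    cases l <;> cases l' <;> first | rfl | exact absurd hl h.es.ne | exact absurd hl.symm h.es.ne
  have hsurj : Function.Surjective φ :=
    ((Nat.bijective_iff_injective_and_card φ).2 ⟨hinj, by
      rw [hA]; simp [Nat.card_eq_fintype_card]⟩).2
  have hW : ∀ k < 64, InW (co a) (co b) (k ^^^ ac y k) := fun k hk => by
    obtain ⟨q, hq, rfl⟩ := h.co_surj k hk
    obtain ⟨t, ht⟩ := hsurj ⟨_, hcom q hq⟩
    have e := congrArg (fun x : A => co (x : G)) ht
    simp only [hco] at e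
    rw [show q * y * q⁻¹ * y⁻¹ = q * (y * q⁻¹ * y⁻¹) by group,
      h.co_mul q hq _ (h.norm y hy _ (inv_mem hq)), h.conj y hy _ (inv_mem hq), h.co_inv hq] at e
    rw [← e]
    rcases t with ⟨i, j, l⟩
    cases i <;> cases j <;> simp [InW]
  have hf3 : ∀ k < 64, ac y (ac y (ac y k)) = k := fun k hk => by
    rw [← h.ac_mul hy hy (h.ac_lt hy hk), ← h.ac_mul (hy.mul_left hy) hy hk,
      show y * y * y = 1 by rw [← hy3, pow_succ, pow_two]]
    exact h.ac_Q (one_mem Q) hk
  have hne : ∃ k < 64, ac y k ≠ k := by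
    by_contra hcon
    push Not at hcon
    have hyQ := h.faithful y hy hcon
    have e2 := h.sq y hyQ
    refine hy1 ?_
    have e : y = (y * y) * (y * y) := by
      calc y = y ^ 4 := by rw [pow_succ, hy3, one_mul]
        _ = _ := by simp only [pow_succ, pow_zero, one_mul, mul_assoc]
    rw [e, e2, pw_mul h.es.sq, Bool.xor_self]
    rfl
  obtain ⟨g, g', hg, hr⟩ := exists_rot (h.iso hy) hf3 hne la lb hbn hW
  exact ⟨_, _, frame_map h hg, hr⟩

end Cfsg.Agent.Lib.SuzCent37
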