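import Cfsg.Agent.Lib.SuzCent37.Gens

/-!
# Suzuki type: the two quaternion groups, the rotations and the order of `C(z) ∩ C(y)`

Owner: helper37.
-/

set_option autoImplicit false

namespace Cfsg.Agent.Lib.SuzCent37

open Cfsg.Agent.Lib.SuzType52 Cfsg.Agent.Lib.PGroups

variable {G : Type*} [Group G]

/-- `C(z) ∩ C(y)`. -/
def cen (z y : G) : Subgroup G :=
  Subgroup.centralizer ({z} : Set G) ⊓ Subgroup.centralizer ({y} : Set G)

theorem mem_cen {z y m : G} : m ∈ cen z y ↔ Commute m z ∧ Commute m y := by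
  simp only [cen, Subgroup.mem_inf, Subgroup.mem_centralizer_singleton_iff]
  rfl

namespace Rot

variable {z : G} {Q : Subgroup G} {co : G → ℕ} {ac : G → ℕ → ℕ} {y : G} (h : Rot z Q co ac y)
include h

theorem mem_cen_Q {q : G} (hq : q ∈ Q) (hc : co q < 16) : q ∈ cen z y :=
  mem_cen.2 ⟨h.fr.es.comm q hq, ((h.commute_y_iff hq).2 hc).symm⟩

theorem co_lt16 {q : G} (hq : q ∈ Q) (hy : Commute q y) : co q < 16 := (h.commute_y_iff hq).1 hy.symm

theorem y_mem : y ∈ cen z y := mem_cen.2 ⟨h.yz, Commute.refl y⟩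

theorem z_mem : z ∈ cen z y := mem_cen.2 ⟨Commute.refl z, h.yz.symm⟩

theorem orderOf_y : orderOf y = 3 :=
  have : Fact (Nat.Prime 3) := ⟨Nat.prime_three⟩
  orderOf_eq_prime h.y3 h.y1

/-- A quaternion group on a plane rotated by `u`. -/
theorem exists_sl {u : G} (hu : Commute u z) (hu3 : u ^ 3 = 1) {p p' : ℕ} (hp : p < 64) (hp' : p' < 64)
    (qp : qn p = true) (qp' : qn p' = true) (hb : bn p' p = true) (e1 : ac u p = p')
    (e2 : ac u p' = p ^^^ p') :
    ∃ i ∈ Q, ∃ j ∈ Q, co i = p ∧ co j = p' ∧ SLRel i j u := by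
  obtain ⟨i, hi, hip⟩ := h.fr.co_surj p hp
  have key : ∀ i ∈ Q, co i = p → co (u * i * u⁻¹) = p' ∧ i ^ 4 = 1 ∧
      (u * i * u⁻¹) * (u * i * u⁻¹) = i * i ∧ (u * i * u⁻¹) * i * (u * i * u⁻¹)⁻¹ = i⁻¹ := by
    intro i hi hip
    have hj : co (u * i * u⁻¹) = p' := by rw [h.fr.conj u hu i hi, hip, e1]
    refine ⟨hj, h.pow_four hi, ?_, ?_⟩
    · rw [h.fr.sq _ (h.fr.norm u hu i hi), hj, h.fr.sq i hi, hip, qp, qp']
    · rw [h.fr.comm_Q (h.fr.norm u hu i hi) hi, hj, hip, hb]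
      refine (inv_eq_of_mul_eq_one_right ?_).symm
      rw [← mul_assoc, h.fr.sq i hi, hip, qp]
      exact h.fr.es.sq
  obtain ⟨hj, k1, k2, k3⟩ := key i hi hip
  have hjQ := h.fr.norm u hu i hi
  have h2 : co (u * (u * i * u⁻¹) * u⁻¹) = co (i * (u * i * u⁻¹)) := by
    rw [h.fr.conj u hu _ hjQ, hj, e2, h.fr.co_mul i hi _ hjQ, hip, hj]
  rcases h.fr.co_eq (mul_mem hi hjQ) (h.fr.norm u hu _ hjQ) h2.symm with e | e
  · exact ⟨i, hi, _, hjQ, hip, hj, k1, k2, k3, hu3, rfl, e⟩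
  · have hi' : i * z ∈ Q := mul_mem hi h.fr.es.mem
    have hip' : co (i * z) = p := by rw [h.fr.co_mul i hi z h.fr.es.mem, h.fr.co_z, hip, Nat.xor_zero]
    obtain ⟨hj', k1', k2', k3'⟩ := key _ hi' hip'
    refine ⟨i * z, hi', _, h.fr.norm u hu _ hi', hip', hj', k1', k2', k3', hu3, rfl, ?_⟩
    have eu : u * z * u⁻¹ = z := mul_inv_eq_iff_eq_mul.2 hu.eq
    have ej : u * (i * z) * u⁻¹ = u * i * u⁻¹ * z := by
      calc u * (i * z) * u⁻¹ = u * i * u⁻¹ * (u * z * u⁻¹) := by group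
        _ = _ := by rw [eu]
    rw [ej]
    calc u * (u * i * u⁻¹ * z) * u⁻¹ = u * (u * i * u⁻¹) * u⁻¹ * (u * z * u⁻¹) := by group
      _ = i * (u * i * u⁻¹) * (z * z) := by rw [e, eu]; group
      _ = i * z * (u * i * u⁻¹ * z) := by
        rw [← mul_assoc _ z z, mul_assoc i z, ← mul_assoc z, ← (h.fr.es.comm _ hjQ).eq]
        group

end Rot

/-- A plane, its rotation and its quaternion group. -/
structure Pl (z : G) (Q : Subgroup G) (co : G → ℕ) (ac : G → ℕ → ℕ) (y u : G) (p p' : ℕ) (i j : G) :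
    Prop where
  iQ : i ∈ Q
  jQ : j ∈ Q
  coi : co i = p
  coj : co j = p'
  rel : SLRel i j u
  iy : co i < 16
  jy : co j < 16
  uc : Commute u z ∧ Commute u y

/-- Two planes. -/
structure Elts (z : G) (Q : Subgroup G) (co : G → ℕ) (ac : G → ℕ → ℕ)
    (y y1 y2 r s i1 j1 i2 j2 : G) : Prop where
  gens : Gens z Q co ac y y1 y2 r s
  p1 : Pl z Q co ac y y1 3 13 i1 j1
  p2 : Pl z Q co ac y y2 12 7 i2 j2

theorem Gens.exists_elts {z : G} {Q : Subgroup G} {co : G → ℕ} {ac : G → ℕ → ℕ} {y y1 y2 r s : G}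
    (g : Gens z Q co ac y y1 y2 r s) : ∃ i1 j1 i2 j2, Elts z Q co ac y y1 y2 r s i1 j1 i2 j2 := by
  obtain ⟨i1, a, j1, b, c, d, e⟩ := g.rot.exists_sl g.z1 g.o1 (p := 3) (p' := 13) (by norm_num)
    (by norm_num) (by decide) (by decide) (by decide) (by rw [g.a1 3 (by norm_num)]; decide)
    (by rw [g.a1 13 (by norm_num)]; decide)
  obtain ⟨i2, a', j2, b', c', d', e'⟩ := g.rot.exists_sl g.z2 g.o2 (p := 12) (p' := 7) (by norm_num)
    (by norm_num) (by decide) (by decide) (by decide) (by rw [g.a2 12 (by norm_num)]; decide)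
    (by rw [g.a2 7 (by norm_num)]; decide)
  exact ⟨i1, j1, i2, j2, g, ⟨a, b, c, d, e, by omega, by omega, g.z1, g.c1⟩,
    ⟨a', b', c', d', e', by omega, by omega, g.z2, g.c2⟩⟩

namespace Pl

variable {z : G} {Q : Subgroup G} {co : G → ℕ} {ac : G → ℕ → ℕ} {y u : G} {p p' : ℕ} {i j : G}
  (P : Pl z Q co ac y u p p' i j) (h : Rot z Q co ac y)
include P h

theorem mem_i : i ∈ cen z y := h.mem_cen_Q P.iQ P.iy

theorem mem_j : j ∈ cen z y := h.mem_cen_Q P.jQ P.jy

theorem mem_u : u ∈ cen z y := mem_cen.2 P.uc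

theorem ac_u : ac u p = p' ∧ ac u p' = p ^^^ p' := by
  obtain ⟨-, -, -, -, e1, e2⟩ := P.rel
  constructor
  · rw [← P.coj, ← e1, h.fr.conj u P.uc.1 i P.iQ, P.coi]
  · rw [← P.coi, ← P.coj, ← h.fr.co_mul i P.iQ j P.jQ, ← e2, h.fr.conj u P.uc.1 j P.jQ]

theorem i_sq (qp : qn p = true) : i * i = z := by
  rw [h.fr.sq i P.iQ, P.coi, qp]; rfl

/-- The twenty-four products are distinct. -/
theorem prod_inj (qp : qn p = true) (qp' : qn p' = true) (hne : p ≠ p') {a a' : Fin 4} {b b' : Fin 2}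
    {c c' : Fin 3}
    (e : i ^ (a : ℕ) * j ^ (b : ℕ) * u ^ (c : ℕ) = i ^ (a' : ℕ) * j ^ (b' : ℕ) * u ^ (c' : ℕ)) :
    a = a' ∧ b = b' ∧ c = c' := by
  obtain ⟨au, au'⟩ := P.ac_u h
  have hp0 : p ≠ 0 := fun e0 => by rw [e0] at qp; cases qp
  have hp0' : p' ≠ 0 := fun e0 => by rw [e0] at qp'; cases qp'
  have lp : p < 64 := P.coi ▸ h.fr.co_lt i P.iQ
  have hv : ∀ c : Fin 3, ac (u ^ (c : ℕ)) p = ![p, p', p ^^^ p'] c := fun c => by
    match c with
    | 0 => simpa using h.fr.ac_Q (one_mem Q) lp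
    | 1 => simpa using au
    | 2 =>
      show ac (u ^ 2) p = p ^^^ p'
      rw [pow_two, h.fr.ac_mul P.uc.1 P.uc.1 lp, au, au']
  have hval : ∀ (a : Fin 4) (b : Fin 2) (c : Fin 3),
      ac (i ^ (a : ℕ) * j ^ (b : ℕ) * u ^ (c : ℕ)) p = ![p, p', p ^^^ p'] c := fun a b c => by
    have hm : i ^ (a : ℕ) * j ^ (b : ℕ) ∈ Q := mul_mem (pow_mem P.iQ _) (pow_mem P.jQ _)
    rw [h.fr.ac_mul (h.fr.es.comm _ hm) (P.uc.1.pow_left _) lp,
      h.fr.ac_Q hm (h.fr.ac_lt (P.uc.1.pow_left _) lp), hv c]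
  have hc : c = c' := by
    have h0 := hval a b c
    rw [e, hval a' b' c'] at h0
    have n1 : p ^^^ p' ≠ p := fun e0 => hp0' (Nat.xor_right_inj.1 (e0.trans (Nat.xor_zero p).symm))
    have n2 : p ^^^ p' ≠ p' := fun e0 => hp0 (Nat.xor_left_inj.1 (e0.trans (Nat.zero_xor p').symm))
    revert h0
    fin_cases c <;> fin_cases c' <;>
      simp [hne, hne.symm, n1, n2, n1.symm, n2.symm]
  subst hc
  have e' := mul_right_cancel e
  have hb : b = b' := by
    have hco : ∀ (a : Fin 4) (b : Fin 2), co (i ^ (a : ℕ) * j ^ (b : ℕ)) =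
        (![0, p, 0, p] a) ^^^ (![0, p'] b) := fun a b => by
      rw [h.fr.co_mul _ (pow_mem P.iQ _) _ (pow_mem P.jQ _)]
      congr 1
      · match a with
        | 0 => simpa using h.fr.co_one
        | 1 => simpa using P.coi
        | 2 =>
          show co (i ^ 2) = 0
          rw [pow_two, h.fr.co_mul i P.iQ i P.iQ, Nat.xor_self]
        | 3 =>
          show co (i ^ 3) = p
          rw [pow_succ, pow_two, h.fr.co_mul _ (mul_mem P.iQ P.iQ) i P.iQ,
            h.fr.co_mul i P.iQ i P.iQ, Nat.xor_self, Nat.zero_xor, P.coi]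
      · match b with
        | 0 => simpa using h.fr.co_one
        | 1 => simpa using P.coj
    have h0 := hco a b
    rw [e', hco a' b'] at h0
    revert h0
    fin_cases a <;> fin_cases a' <;> fin_cases b <;> fin_cases b' <;>
      simp [hp0, hp0', hp0'.symm, hne, hne.symm, Nat.xor_eq_zero_iff, eq_comm] <;>
      intro h0 <;>
      first
        | exact hp0' (by simpa [Nat.xor_assoc] using congrArg (p ^^^ ·) h0.symm)
        | exact hp0' (by simpa [Nat.xor_assoc] using congrArg (p ^^^ ·) h0)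
  subst hb
  refine ⟨?_, rfl, rfl⟩
  have hi4 : orderOf i = 4 := by
    have : Fact (Nat.Prime 2) := ⟨Nat.prime_two⟩
    have := orderOf_eq_prime_pow (x := i) (p := 2) (n := 1)
      (by rw [pow_one, pow_two, P.i_sq h qp]; exact h.fr.es.ne) P.rel.1
    simpa using this
  exact Fin.ext (pow_injOn_Iio_orderOf (Set.mem_Iio.2 (hi4.symm ▸ a.2)) (Set.mem_Iio.2 (hi4.symm ▸ a'.2))
    (mul_right_cancel e'))

end Pl

namespace Elts

variable {z : G} {Q : Subgroup G} {co : G → ℕ} {ac : G → ℕ → ℕ} {y y1 y2 r s i1 j1 i2 j2 : G}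
  (E : Elts z Q co ac y y1 y2 r s i1 j1 i2 j2)
include E

/-- The two triples commute. -/
theorem commute {a b : G} (ha : a ∈ ({i1, j1, y1} : Set G)) (hb : b ∈ ({i2, j2, y2} : Set G)) :
    Commute a b := by
  have F := E.gens.rot.fr
  have R := E.gens.rot
  have f1 : ∀ {q : G}, q ∈ Q → (co q = 12 ∨ co q = 7) → Commute y1 q := fun {q} hq e =>
    R.commute_of_fixed E.gens.z1 E.gens.o1 hq (by
      rw [E.gens.a1 _ (F.co_lt q hq)]; rcases e with e | e <;> rw [e] <;> decide)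
  have f2 : ∀ {q : G}, q ∈ Q → (co q = 3 ∨ co q = 13) → Commute y2 q := fun {q} hq e =>
    R.commute_of_fixed E.gens.z2 E.gens.o2 hq (by
      rw [E.gens.a2 _ (F.co_lt q hq)]; rcases e with e | e <;> rw [e] <;> decide)
  have qq : ∀ {q q' : G}, q ∈ Q → q' ∈ Q → (co q = 3 ∨ co q = 13) → (co q' = 12 ∨ co q' = 7) →
      Commute q q' := fun {q q'} hq hq' e e' => (F.commute_Q hq hq').2 (by
    rcases e with e | e <;> rcases e' with e' | e' <;> rw [e, e'] <;> decide)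
  obtain ⟨a1Q, b1Q, a1c, b1c⟩ := And.intro E.p1.iQ (And.intro E.p1.jQ (And.intro E.p1.coi E.p1.coj))
  rcases ha with rfl | rfl | rfl <;> rcases hb with rfl | rfl | rfl
  · exact qq a1Q E.p2.iQ (Or.inl a1c) (Or.inl E.p2.coi)
  · exact qq a1Q E.p2.jQ (Or.inl a1c) (Or.inr E.p2.coj)
  · exact (f2 a1Q (Or.inl a1c)).symm
  · exact qq b1Q E.p2.iQ (Or.inr b1c) (Or.inl E.p2.coi)
  · exact qq b1Q E.p2.jQ (Or.inr b1c) (Or.inr E.p2.coj)
  · exact (f2 b1Q (Or.inr b1c)).symm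
  · exact f1 E.p2.iQ (Or.inl E.p2.coi)
  · exact f1 E.p2.jQ (Or.inr E.p2.coj)
  · exact E.gens.c21.symm

theorem commute_closure {a b : G} (ha : a ∈ Subgroup.closure ({i1, j1, y1} : Set G))
    (hb : b ∈ Subgroup.closure ({i2, j2, y2} : Set G)) : Commute a b := by
  have h1 : ∀ x ∈ ({i1, j1, y1} : Set G), Commute x b := fun x hx => by
    have hle : Subgroup.closure ({i2, j2, y2} : Set G) ≤ Subgroup.centralizer ({x} : Set G) :=
      (Subgroup.closure_le _).2 fun w hw =>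
        Subgroup.mem_centralizer_singleton_iff.2 (E.commute hx hw).symm.eq
    exact (Subgroup.mem_centralizer_singleton_iff.1 (hle hb)).symm
  have hle : Subgroup.closure ({i1, j1, y1} : Set G) ≤ Subgroup.centralizer ({b} : Set G) :=
    (Subgroup.closure_le _).2 fun x hx => Subgroup.mem_centralizer_singleton_iff.2 (h1 x hx).eq
  exact Subgroup.mem_centralizer_singleton_iff.1 (hle ha)

/-- The elements of `Q` centralising `y` are products from the two planes. -/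
theorem mem_sup_of_mem_Q {q : G} (hq : q ∈ Q) (hy : Commute q y) :
    q ∈ Subgroup.closure ({i1, j1, y1} : Set G) ⊔ Subgroup.closure ({i2, j2, y2} : Set G) := by
  have F := E.gens.rot.fr
  set S := Subgroup.closure ({i1, j1, y1} : Set G) ⊔ Subgroup.closure ({i2, j2, y2} : Set G) with hS
  have s1 : ∀ a ∈ ({i1, j1, y1} : Set G), a ∈ S := fun a ha =>
    Subgroup.mem_sup_left (Subgroup.subset_closure ha)
  have s2 : ∀ a ∈ ({i2, j2, y2} : Set G), a ∈ S := fun a ha =>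
    Subgroup.mem_sup_right (Subgroup.subset_closure ha)
  have hz : z ∈ S := by
    rw [← E.p1.i_sq E.gens.rot (by decide)]
    exact mul_mem (s1 _ (by simp)) (s1 _ (by simp))
  obtain ⟨a, ha, b, hb, e⟩ := planes_cover _ (E.gens.rot.co_lt16 hq hy)
  have pick : ∀ {i j : G} {p p' : ℕ}, i ∈ Q → j ∈ Q → co i = p → co j = p' → i ∈ S → j ∈ S →
      ∀ a ∈ [0, p, p', p ^^^ p'], ∃ w ∈ Q, w ∈ S ∧ co w = a := by
    intro i j p p' hi hj ei ej si sj a ha
    simp only [List.mem_cons, List.not_mem_nil, or_false] at ha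
    rcases ha with rfl | rfl | rfl | rfl
    · exact ⟨1, one_mem _, one_mem _, F.co_one⟩
    · exact ⟨i, hi, si, ei⟩
    · exact ⟨j, hj, sj, ej⟩
    · exact ⟨i * j, mul_mem hi hj, mul_mem si sj, by rw [F.co_mul i hi j hj, ei, ej]⟩
  obtain ⟨w, hw, sw, ew⟩ := pick E.p1.iQ E.p1.jQ E.p1.coi E.p1.coj (s1 _ (by simp)) (s1 _ (by simp)) a
    (by simpa [pl1] using ha)
  obtain ⟨v, hv, sv, ev⟩ := pick E.p2.iQ E.p2.jQ E.p2.coi E.p2.coj (s2 _ (by simp)) (s2 _ (by simp)) b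
    (by simpa [pl2] using hb)
  rcases F.co_eq (mul_mem hw hv) hq (by rw [F.co_mul w hw v hv, ew, ev, e]) with e' | e' <;> rw [e']
  · exact mul_mem sw sv
  · exact mul_mem (mul_mem sw sv) hz

end Elts

namespace Gens

variable {z : G} {Q : Subgroup G} {co : G → ℕ} {ac : G → ℕ → ℕ} {y y1 y2 r s : G}
  (g : Gens z Q co ac y y1 y2 r s)
include g

theorem card_Q_cen : Nat.card (Q.subgroupOf (cen z y)) = 32 := by
  have F := g.rot.fr
  choose q hq hqc using fun k : Fin 16 => F.co_surj k.1 (by omega)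
  let φ : Fin 16 × Bool → (Q.subgroupOf (cen z y)) := fun t =>
    ⟨⟨q t.1 * pw z t.2, by
      refine mul_mem (g.rot.mem_cen_Q (hq _) (by rw [hqc]; exact t.1.2)) ?_
      cases t.2
      · exact one_mem _
      · exact g.rot.z_mem⟩, by
      refine mul_mem (hq _) ?_
      cases t.2
      · exact one_mem _
      · exact F.es.mem⟩
  have hco : ∀ t, co ((φ t : cen z y) : G) = t.1.1 := fun t => by
    show co (q t.1 * pw z t.2) = _
    rw [F.co_mul _ (hq _) _ (by cases t.2; exacts [one_mem _, F.es.mem]), hqc]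
    cases t.2
    · rw [show pw z false = 1 from rfl, F.co_one, Nat.xor_zero]
    · rw [show pw z true = z from rfl, F.co_z, Nat.xor_zero]
  refine (Nat.card_eq_of_bijective φ ⟨?_, ?_⟩).symm.trans (by simp [Nat.card_eq_fintype_card])
  · rintro ⟨a, b⟩ ⟨a', b'⟩ e
    have ea : a = a' := Fin.ext (by rw [← hco ⟨a, b⟩, ← hco ⟨a', b'⟩, e])
    subst ea
    have eb : pw z b = pw z b' :=
      mul_left_cancel (congrArg (fun x : (Q.subgroupOf (cen z y)) => ((x : cen z y) : G)) e)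
    cases b <;> cases b' <;>
      first | rfl | exact absurd eb F.es.ne | exact absurd eb.symm F.es.ne
  · rintro ⟨⟨w, hwc⟩, hw⟩
    have hw' : w ∈ Q := hw
    have hlt := g.rot.co_lt16 hw' (mem_cen.1 hwc).2
    rcases F.co_eq (hq ⟨co w, hlt⟩) hw' (hqc ⟨co w, hlt⟩) with e | e
    · exact ⟨(⟨co w, hlt⟩, false), Subtype.ext (Subtype.ext (by
        show q _ * 1 = w
        exact (mul_one _).trans e.symm))⟩
    · exact ⟨(⟨co w, hlt⟩, true), Subtype.ext (Subtype.ext e.symm)⟩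

/-- The order of `C(z) ∩ C(y)`. -/
theorem card_cen : Nat.card (cen z y) = 108 * 32 := by
  let φ : {t // t ∈ idx} × (Q.subgroupOf (cen z y)) → cen z y := fun p =>
    ⟨wel y y1 y2 r s p.1.1, mem_cen.2 ⟨g.wel_z _, g.wel_y _⟩⟩ * p.2.1
  have hcard : Nat.card {t // t ∈ idx} = 108 := by
    rw [Nat.card_eq_fintype_card, Fintype.card_of_subtype idx.toFinset (fun t => List.mem_toFinset),
      List.toFinset_card_of_nodup idx_nodup, idx_length]
  refine (Nat.card_eq_of_bijective φ ⟨?_, ?_⟩).symm.trans (by rw [Nat.card_prod, hcard, g.card_Q_cen])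
  · rintro ⟨⟨t, ht⟩, q, hq⟩ ⟨⟨u, hu⟩, q', hq'⟩ e
    have hv := congrArg Subtype.val e
    simp only [φ, Subgroup.coe_mul] at hv
    have hqQ : (q : G) ∈ Q := hq
    have hqQ' : (q' : G) ∈ Q := hq'
    have hk : ∀ k < 64, wd t k = wd u k := fun k hk => by
      have h1 : ac (wel y y1 y2 r s t * (q : G)) k = wd t k := by
        rw [g.rot.fr.ac_mul (g.wel_z t) (g.rot.fr.es.comm _ hqQ) hk, g.rot.fr.ac_Q hqQ hk, g.wel_ac t hk]
      have h2 : ac (wel y y1 y2 r s u * (q' : G)) k = wd u k := by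
        rw [g.rot.fr.ac_mul (g.wel_z u) (g.rot.fr.es.comm _ hqQ') hk, g.rot.fr.ac_Q hqQ' hk,
          g.wel_ac u hk]
      rw [← h1, ← h2]
      exact congrArg (fun m => ac m k) hv
    obtain rfl := wd_inj t ht u hu (hk _ (by norm_num)) (hk _ (by norm_num)) (hk _ (by norm_num))
      (hk _ (by norm_num)) (hk _ (by norm_num))
    have : q = q' := Subtype.ext (mul_left_cancel hv)
    subst this
    rfl
  · rintro ⟨c, hc⟩
    obtain ⟨t, ht, q, hq, hqc, rfl⟩ := g.classify' (mem_cen.1 hc).1 (mem_cen.1 hc).2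
    exact ⟨(⟨t, ht⟩, ⟨⟨q, g.rot.mem_cen_Q hq hqc⟩, hq⟩), rfl⟩

end Gens

end Cfsg.Agent.Lib.SuzCent37
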