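import Cfsg.Agent.Lib.SuzCent37.Elements
import Cfsg.Agent.Lib.SuzType52.Main

/-!
# Suzuki type: fusion of `z` inside `C(y)` and the intersection of `Q` with a conjugate

Owner: helper37.
-/

set_option autoImplicit false

namespace Cfsg.Agent.Lib.SuzCent37

open Cfsg.Agent.Lib.SuzType52

variable {G : Type*} [Group G] [Finite G] {z : G} {Q : Subgroup G} {co : G → ℕ} {ac : G → ℕ → ℕ}
  {x n y y1 y2 r s : G}

/-- Conjugating `v` into the cyclic group of `u`, both being Sylow subgroups. -/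
theorem exists_conj_zpowers {E : Subgroup G} {u v : G} (hu : u ∈ E) (hv : v ∈ E) (hu3 : orderOf u = 3)
    (hv3 : orderOf v = 3) (h9 : ¬ 9 ∣ Nat.card E) :
    ∃ e ∈ E, e * v * e⁻¹ = u ∨ e * v * e⁻¹ = u⁻¹ := by
  have : Fact (Nat.Prime 3) := ⟨Nat.prime_three⟩
  set u' : E := ⟨u, hu⟩
  set v' : E := ⟨v, hv⟩
  have ho : ∀ {w : E}, orderOf (w : G) = 3 → Nat.card (Subgroup.zpowers w) = 3 := fun {w} hw => by
    rw [Nat.card_zpowers, ← Subgroup.orderOf_coe, hw]
  have hsyl : ∀ w : E, orderOf (w : G) = 3 → ¬ 3 ∣ (Subgroup.zpowers w).index := fun w hw hd => h9 (by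
    have := Nat.mul_dvd_mul_left 3 hd
    rwa [← ho hw, Subgroup.card_mul_index, ho hw] at this)
  have hp : ∀ w : E, orderOf (w : G) = 3 → IsPGroup 3 (Subgroup.zpowers w) := fun w hw =>
    IsPGroup.of_card (n := 1) (by rw [ho hw, pow_one])
  obtain ⟨e, he⟩ := MulAction.exists_smul_eq E ((hp v' hv3).toSylow (hsyl v' hv3))
    ((hp u' hu3).toSylow (hsyl u' hu3))
  have h1 : (e * v' * e⁻¹ : E) ∈ Subgroup.zpowers u' := by
    have : (e * v' * e⁻¹ : E) ∈ (e • ((hp v' hv3).toSylow (hsyl v' hv3)) : Sylow 3 E) := by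
      show e * v' * e⁻¹ ∈ ((e • ((hp v' hv3).toSylow (hsyl v' hv3)) : Sylow 3 E) : Subgroup E)
      rw [Sylow.coe_subgroup_smul]
      exact ⟨v', Subgroup.mem_zpowers v', rfl⟩
    rwa [he] at this
  have hf : IsOfFinOrder u := isOfFinOrder_of_finite u
  have h2 : e.1 * v * e.1⁻¹ ∈ Subgroup.zpowers u := by
    obtain ⟨k, hk⟩ := h1
    exact ⟨k, congrArg Subtype.val hk⟩
  obtain ⟨k, hk⟩ := hf.mem_powers_iff_mem_zpowers.2 h2
  refine ⟨e, e.2, ?_⟩
  have hk' : u ^ (k % 3) = e.1 * v * e.1⁻¹ := by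
    rw [← hu3, pow_mod_orderOf]; exact hk
  have hlt := Nat.mod_lt k (show 3 > 0 by norm_num)
  interval_cases hm : k % 3
  · exfalso
    rw [pow_zero] at hk'
    have : v = 1 := conj_eq_one_iff.1 hk'.symm
    rw [this, orderOf_one] at hv3
    norm_num at hv3
  · exact Or.inl (hk'.symm.trans (pow_one u))
  · refine Or.inr (hk'.symm.trans ?_)
    refine eq_inv_of_mul_eq_one_left ?_
    rw [← pow_succ]
    have := pow_orderOf_eq_one u
    rwa [hu3] at this

variable (g : Gens z Q co ac y y1 y2 r s) (d : Duo z Q co ac x n)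
include g d

omit [Finite G] in
theorem x_commute_y : Commute x y :=
  ((g.rot.commute_y_iff d.xQ).2 (by rw [d.cox]; norm_num)).symm

theorem not_nine : ¬ 9 ∣ Nat.card ↥(Subgroup.centralizer ({z} : Set G) ⊓ Subgroup.centralizer ({x} : Set G)) := by
  intro h9
  have : Fact (Nat.Prime 3) := ⟨Nat.prime_three⟩
  set E := Subgroup.centralizer ({z} : Set G) ⊓ Subgroup.centralizer ({x} : Set G) with hE
  have hyE : y ∈ E := ⟨Subgroup.mem_centralizer_singleton_iff.2 g.rot.yz.eq,
    Subgroup.mem_centralizer_singleton_iff.2 (x_commute_y g d).symm.eq⟩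
  set y' : E := ⟨y, hyE⟩
  obtain ⟨P, hP, hle⟩ := Sylow.exists_subgroup_card_pow_prime_le (p := 3) (n := 1) (m := 2) (G := E) h9
    (Subgroup.zpowers y') (by rw [Nat.card_zpowers, ← Subgroup.orderOf_coe, pow_one]; exact g.rot.orderOf_y)
    (by norm_num)
  have hPle : P ≤ Subgroup.zpowers y' := by
    intro c hc
    have hcomm : Commute (c : G) y := by
      have := (IsPGroup.commutative_of_card_eq_prime_sq hP)
      have e := this ⟨c, hc⟩ ⟨y', hle (Subgroup.mem_zpowers y')⟩
      exact congrArg (fun w : P => ((w : E) : G)) e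
    have hcz : Commute (c : G) z := Subgroup.mem_centralizer_singleton_iff.1 c.2.1
    have hcx : Commute (c : G) x := Subgroup.mem_centralizer_singleton_iff.1 c.2.2
    have c9 : (c : G) ^ 9 = 1 := by
      have := pow_card_eq_one' (G := P) (x := ⟨c, hc⟩)
      rw [hP] at this
      simpa using congrArg (fun w : P => ((w : E) : G)) this
    obtain ⟨t, ht, hk⟩ := g.classify hcz hcomm
    have h1 : wd t 1 = 1 := by
      rw [← hk 1 (by norm_num), ← d.cox, ← d.fr.conj _ hcz x d.xQ,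
        mul_inv_eq_iff_eq_mul.2 hcx.eq]
    obtain ⟨i, hi, hi'⟩ := wd_one t ht h1
    have hQ : ((y : G) ^ i)⁻¹ * (c : G) ^ 4 ∈ Q := by
      refine g.rot.same_action (g.rot.yz.pow_left i) (hcz.pow_left 4) fun k hk' => ?_
      rw [g.ac_pow g.rot.yz g.rot.yr i hk', g.ac_pow hcz hk 4 hk']
      have hy : Iso6 (it rot0 i) := by
        have h := g.rot.fr.iso (g.rot.yz.pow_left i)
        exact ⟨fun k hk => g.ac_pow g.rot.yz g.rot.yr i hk ▸ h.lt k hk,
          fun a ha b hb => by
            rw [← g.ac_pow g.rot.yz g.rot.yr i (xor_lt ha hb), ← g.ac_pow g.rot.yz g.rot.yr i ha,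
              ← g.ac_pow g.rot.yz g.rot.yr i hb]
            exact h.add a ha b hb,
          fun k hk => by rw [← g.ac_pow g.rot.yz g.rot.yr i hk]; exact h.pres k hk⟩
      have hw := g.wd_iso t
      exact (ext_basis (hw.comp (hw.comp (hw.comp hw))) hy hi' hk').symm
    have hc4 : (y ^ i)⁻¹ * (c : G) ^ 4 = 1 := by
      have hyc : Commute (y ^ i)⁻¹ ((c : G) ^ 4) := (hcomm.symm.pow_pow i 4).inv_left
      have h9' : ((y ^ i)⁻¹ * (c : G) ^ 4) ^ 9 = 1 := by
        rw [hyc.mul_pow, inv_pow, ← pow_mul, ← pow_mul, mul_comm i, mul_comm 4, pow_mul, pow_mul, c9,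
          show (9 : ℕ) = 3 * 3 by norm_num, pow_mul y 3 3, g.rot.y3]
        simp
      rwa [show (9 : ℕ) = 4 * 2 + 1 by norm_num, pow_succ, pow_mul, g.rot.pow_four hQ, one_pow,
        one_mul] at h9'
    have hc : (c : G) = (y ^ i) ^ 7 := by
      rw [inv_mul_eq_one.1 hc4, ← pow_mul, show 4 * 7 = 9 * 3 + 1 by norm_num, pow_succ, pow_mul, c9,
        one_pow, one_mul]
    exact ⟨((i * 7 : ℕ) : ℤ), Subtype.ext (by
      show (((y' ^ ((i * 7 : ℕ) : ℤ) : E)) : G) = c
      rw [zpow_natCast, Subgroup.coe_pow, pow_mul, hc])⟩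
  have := Subgroup.card_le_of_le hPle
  rw [hP, Nat.card_zpowers, ← Subgroup.orderOf_coe, g.rot.orderOf_y] at this
  norm_num at this

/-- `z` and `x` are conjugate in `C(y)`. -/
theorem exists_fusion : ∃ c, Commute c y ∧ c * z * c⁻¹ = x := by
  set E := Subgroup.centralizer ({z} : Set G) ⊓ Subgroup.centralizer ({x} : Set G) with hE
  have hxy := x_commute_y g d
  have hyE : y ∈ E := ⟨Subgroup.mem_centralizer_singleton_iff.2 g.rot.yz.eq,
    Subgroup.mem_centralizer_singleton_iff.2 hxy.symm.eq⟩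
  have hnE : n * y * n⁻¹ ∈ E := by
    refine ⟨Subgroup.mem_centralizer_singleton_iff.2 ?_, Subgroup.mem_centralizer_singleton_iff.2 ?_⟩
    · have := hxy.symm.map (MulAut.conj n).toMonoidHom
      simpa [d.nx] using this.eq
    · have := g.rot.yz.map (MulAut.conj n).toMonoidHom
      simpa [d.nz] using this.eq
  have ho : orderOf (n * y * n⁻¹) = 3 := by
    rw [← MulAut.conj_apply, MulEquiv.orderOf_eq, g.rot.orderOf_y]
  obtain ⟨e, he, h⟩ := exists_conj_zpowers hyE hnE g.rot.orderOf_y ho (not_nine g d)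
  have hez : Commute e z := Subgroup.mem_centralizer_singleton_iff.1 he.1
  have hex : Commute e x := Subgroup.mem_centralizer_singleton_iff.1 he.2
  have hw : e * n * z * (e * n)⁻¹ = x := by
    calc e * n * z * (e * n)⁻¹ = e * (n * z * n⁻¹) * e⁻¹ := by group
      _ = x := by rw [d.nz, mul_inv_eq_iff_eq_mul.2 hex.eq]
  rcases h with h | h
  · refine ⟨e * n, mul_inv_eq_iff_eq_mul.1 ?_, hw⟩
    conv_rhs => rw [← h]
    group
  · obtain ⟨c, hc, hcx, hck⟩ := d.exists_prE pair_16_12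
    have F := g.rot.fr
    have := g.rot.finQ
    set N := Q ⊓ Subgroup.centralizer ({x} : Set G) with hN
    have hcy : y⁻¹⁻¹ * (c * y * c⁻¹) ∈ Q := by
      refine g.rot.same_action g.rot.yz.inv_left ((hc.mul_left g.rot.yz).mul_left hc.inv_left)
        fun k hk => ?_
      have h1 : rot0 k < 64 := g.rot.yr k hk ▸ F.ac_lt g.rot.yz hk
      have h2 : rot0 (rot0 k) < 64 := g.rot.yr _ h1 ▸ F.ac_lt g.rot.yz h1
      have hk' := F.ac_lt hc.inv_left hk
      have hyi : ac y⁻¹ k = rot0 (rot0 k) := by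
        conv_lhs => rw [← (rot_cube k hk).1, ← g.rot.yr _ h2]
        exact F.ac_inv g.rot.yz h2
      rw [F.ac_conj g.rot.yz hc hk, g.rot.yr _ hk', hck _ (g.rot.yr _ hk' ▸ F.ac_lt g.rot.yz hk'),
        pr_inv _ hk', ← hck _ hk', F.ac_inv' hc hk, hyi]
    obtain ⟨q, ⟨hqQ, hqx⟩, e'⟩ := fix_conj (N := N)
      (fun hd => by
        have := hd.trans (Subgroup.card_dvd_of_le (inf_le_left : N ≤ Q))
        rw [F.card] at this
        norm_num at this)
      (u := y⁻¹) (v := c * y * c⁻¹) (by rw [inv_pow, g.rot.y3, inv_one])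
      (by rw [conj_pow, g.rot.y3]; group)
      (fun q hq => ⟨F.norm _ g.rot.yz.inv_left q hq.1, Subgroup.mem_centralizer_singleton_iff.2
        ((hxy.symm.inv_left.mul_left (Subgroup.mem_centralizer_singleton_iff.1 hq.2)).mul_left
          hxy.symm.inv_left.inv_left).eq⟩)
      ⟨by simpa using hcy, Subgroup.mem_centralizer_singleton_iff.2
        (hxy.symm.inv_left.inv_left.mul_left ((hcx.mul_left hxy.symm).mul_left hcx.inv_left)).eq⟩
    have hqx' : Commute q x := Subgroup.mem_centralizer_singleton_iff.1 hqx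
    refine ⟨q⁻¹ * c * (e * n), mul_inv_eq_iff_eq_mul.1 ?_, ?_⟩
    · calc q⁻¹ * c * (e * n) * y * (q⁻¹ * c * (e * n))⁻¹
          = q⁻¹ * (c * (e * (n * y * n⁻¹) * e⁻¹) * c⁻¹) * q := by group
        _ = q⁻¹ * (c * y * c⁻¹)⁻¹ * q := by rw [h]; group
        _ = q⁻¹ * (q * y⁻¹ * q⁻¹)⁻¹ * q := by rw [e']
        _ = y := by group
    · calc q⁻¹ * c * (e * n) * z * (q⁻¹ * c * (e * n))⁻¹
          = q⁻¹ * (c * (e * n * z * (e * n)⁻¹) * c⁻¹) * q := by group
        _ = x := by
          rw [hw, mul_inv_eq_iff_eq_mul.2 hcx.eq, mul_assoc, ← hqx'.eq, inv_mul_cancel_left]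

omit g in
/-- The intersection of `Q` with a conjugate through a conjugate of `z` in `Q`. -/
theorem inter_four {c : G} (hu : c * z * c⁻¹ ∈ Q) (hne : c * z * c⁻¹ ≠ z) {v : G} (hv : v ∈ Q) :
    c⁻¹ * v * c ∈ Q ↔ ∃ i j, v = pw (c * z * c⁻¹) i * pw z j := by
  have F := d.fr
  constructor
  · intro hv'
    set u := c * z * c⁻¹ with hudef
    have hu2 : u * u = 1 := by
      calc u * u = c * (z * z) * c⁻¹ := by rw [hudef]; group
        _ = 1 := by rw [F.es.sq]; group
    have h0 : co u ≠ 0 := fun e => by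
      rcases F.co_zero u hu e with e | e
      · exact F.es.ne (by simpa [hudef] using e)
      · exact hne e
    have hs : qn (co u) = false := by
      have e := F.sq u hu
      rw [hu2] at e
      cases h3 : qn (co u) with
      | false => rfl
      | true => rw [h3] at e; exact absurd e.symm F.es.ne
    obtain ⟨a, ha, hax⟩ := d.exists_to_x hu h0 hs
    have hm : Commute (n⁻¹ * a * c) z := by
      refine mul_inv_eq_iff_eq_mul.1 ?_
      calc n⁻¹ * a * c * z * (n⁻¹ * a * c)⁻¹ = n⁻¹ * (a * u * a⁻¹) * n := by rw [hudef]; group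
        _ = z := by rw [hax, d.nz']
    have h1 : n⁻¹ * (a * v * a⁻¹) * n ∈ Q := by
      have := F.norm _ hm _ hv'
      convert this using 1
      group
    obtain ⟨i, j, e⟩ := d.inter (F.norm a ha v hv) h1
    refine ⟨i, j, ?_⟩
    have haz : a⁻¹ * z * a = z := by rw [mul_assoc, ← ha.eq, inv_mul_cancel_left]
    have hau : a⁻¹ * x * a = u := by rw [← hax]; group
    have : v = a⁻¹ * ee z x i j * a := by rw [← e]; group
    rw [this, ee]
    cases i <;> cases j <;> simp only [pw, cond_true, cond_false, one_mul, mul_one]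
    · group
    · exact haz
    · exact hau
    · calc a⁻¹ * (x * z) * a = (a⁻¹ * x * a) * (a⁻¹ * z * a) := by group
        _ = _ := by rw [hau, haz]
  · rintro ⟨i, j, rfl⟩
    have hz' := F.inv_mem_of hu hne
    have h : c⁻¹ * (pw (c * z * c⁻¹) i * pw z j) * c = pw z i * pw (c⁻¹ * z * c) j := by
      cases i <;> cases j <;> simp [pw] <;> group
    rw [h]
    refine mul_mem ?_ ?_
    · cases i
      · exact one_mem _
      · exact F.es.mem
    · cases j
      · exact one_mem _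
      · exact hz'

end Cfsg.Agent.Lib.SuzCent37
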