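import Cfsg.Agent.Lib.SuzCent37.Coords
import Cfsg.Agent.Lib.SuzType52.Inv
import Cfsg.Agent.Lib.PGroups.SLTwoThree

/-!
# Suzuki type: the elements of `C(z)` centralising an element `y` acting as `rot0`

Owner: helper37.
-/

set_option autoImplicit false

namespace Cfsg.Agent.Lib.SuzCent37

open Cfsg.Agent.Lib.SuzType52 Cfsg.Agent.Lib.PGroups

variable {G : Type*} [Group G]

/-- An element of order three and a second one congruent to it modulo a group of order prime to three are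
conjugate by that group. -/
theorem fix_conj {N : Subgroup G} [Finite N] (h3N : ¬ 3 ∣ Nat.card N) {u v : G} (hu : u ^ 3 = 1)
    (hv : v ^ 3 = 1) (hn : ∀ q ∈ N, u * q * u⁻¹ ∈ N) (huv : u⁻¹ * v ∈ N) :
    ∃ q ∈ N, q * u * q⁻¹ = v := by
  classical
  have := Fintype.ofFinite N
  have : Fact (Nat.Prime 3) := ⟨Nat.prime_three⟩
  have u3 : u * u * u = 1 := by rw [← hu, pow_succ, pow_two]
  have v3 : v * v * v = 1 := by rw [← hv, pow_succ, pow_two]
  have hmem : ∀ q : N, v * (q : G) * u⁻¹ ∈ N := fun q => by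
    have := hn _ (mul_mem huv q.2)
    convert this using 1
    group
  let φ : N → N := fun q => ⟨v * (q : G) * u⁻¹, hmem q⟩
  have h3 : ∀ q, φ (φ (φ q)) = q := fun q => by
    refine Subtype.ext ?_
    show v * (v * (v * (q : G) * u⁻¹) * u⁻¹) * u⁻¹ = q
    calc v * (v * (v * (q : G) * u⁻¹) * u⁻¹) * u⁻¹ = (v * v * v) * q * (u * u * u)⁻¹ := by group
      _ = q := by rw [u3, v3]; group
  let σ : Equiv.Perm N :=
    { toFun := φ, invFun := fun q => φ (φ q), left_inv := h3, right_inv := h3 }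
  obtain ⟨q, hq⟩ := Equiv.Perm.exists_fixed_point_of_prime (p := 3) (n := 1)
    (by rw [← Nat.card_eq_fintype_card]; exact h3N) (σ := σ) (by
      rw [pow_one, pow_succ, pow_two]
      exact Equiv.ext h3)
  refine ⟨q, q.2, ?_⟩
  have e : v * (q : G) * u⁻¹ = q := congrArg Subtype.val hq
  calc (q : G) * u * (q : G)⁻¹ = (v * (q : G) * u⁻¹) * u * (q : G)⁻¹ := by rw [e]
    _ = v := by group

/-- Equality of maps of the coded space on a basis. -/
theorem ext_basis {f g : ℕ → ℕ} (hf : Iso6 f) (hg : Iso6 g)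
    (h : ∀ k ∈ [1, 2, 4, 8, 16, 32], f k = g k) {k : ℕ} (hk : k < 64) : f k = g k := by
  rw [← hf.lin_eq hk, ← hg.lin_eq hk, h 1 (by simp), h 2 (by simp), h 4 (by simp), h 8 (by simp),
    h 16 (by simp), h 32 (by simp)]

theorem lin_units (a b c d e g : ℕ) : lin a b c d e g 1 = a ∧ lin a b c d e g 2 = b ∧
    lin a b c d e g 4 = c ∧ lin a b c d e g 8 = d ∧ lin a b c d e g 16 = e ∧ lin a b c d e g 32 = g := by
  refine ⟨?_, ?_, ?_, ?_, ?_, ?_⟩ <;> simp [lin, Nat.beq]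

theorem it_lt {f : ℕ → ℕ} (hf : ∀ k < 64, f k < 64) (n : ℕ) {k : ℕ} (hk : k < 64) : it f n k < 64 := by
  induction n with
  | zero => exact hk
  | succ n ih => exact hf _ ih

/-- `C(z)` with an element of order three acting as `rot0`. -/
structure Rot (z : G) (Q : Subgroup G) (co : G → ℕ) (ac : G → ℕ → ℕ) (y : G) : Prop where
  fr : Frame z Q co ac
  yz : Commute y z
  y3 : y ^ 3 = 1
  y1 : y ≠ 1
  yr : ∀ k < 64, ac y k = rot0 k

namespace Rot

variable {z : G} {Q : Subgroup G} {co : G → ℕ} {ac : G → ℕ → ℕ} {y : G} (h : Rot z Q co ac y)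
include h

theorem finQ : Finite Q := Nat.finite_of_card_ne_zero (by rw [h.fr.card]; norm_num)

theorem pow_four {q : G} (hq : q ∈ Q) : q ^ 4 = 1 := by
  rw [show q ^ 4 = q * q * (q * q) by simp only [pow_succ, pow_zero, one_mul, mul_assoc], h.fr.sq q hq,
    pw_mul h.fr.es.sq, Bool.xor_self]
  rfl

theorem eq_one_of_cube {q : G} (hq : q ∈ Q) (h3 : q ^ 3 = 1) : q = 1 := by
  have := h.pow_four hq
  rwa [pow_succ, h3, one_mul] at this

theorem commute_of_fixed {u q : G} (hu : Commute u z) (hu3 : u ^ 3 = 1) (hq : q ∈ Q)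
    (e : ac u (co q) = co q) : Commute u q := by
  have hc : co (u * q * u⁻¹) = co q := by rw [h.fr.conj u hu q hq, e]
  rcases h.fr.co_eq hq (h.fr.norm u hu q hq) hc.symm with e' | e'
  · exact mul_inv_eq_iff_eq_mul.1 e'
  · exfalso
    have u3 : u * u * u = 1 := by rw [← hu3, pow_succ, pow_two]
    have e2 : u * z * u⁻¹ = z := mul_inv_eq_iff_eq_mul.2 hu.eq
    have : q = q * z := by
      calc q = (u * u * u) * q * (u * u * u)⁻¹ := by rw [u3]; group
        _ = u * (u * (u * q * u⁻¹) * u⁻¹) * u⁻¹ := by group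
        _ = u * (u * (q * z) * u⁻¹) * u⁻¹ := by rw [e']
        _ = u * ((u * q * u⁻¹) * (u * z * u⁻¹)) * u⁻¹ := by group
        _ = u * (q * z * z) * u⁻¹ := by rw [e', e2]
        _ = _ := by rw [mul_assoc q z z, h.fr.es.sq, mul_one, e']
    exact h.fr.es.ne (left_eq_mul.1 this)

theorem commute_y_iff {q : G} (hq : q ∈ Q) : Commute y q ↔ co q < 16 := by
  rw [← rot0_fixed _ (h.fr.co_lt q hq), ← h.yr _ (h.fr.co_lt q hq)]
  refine ⟨fun hc => ?_, h.commute_of_fixed h.yz h.y3 hq⟩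
  rw [← h.fr.conj y h.yz q hq, mul_inv_eq_iff_eq_mul.2 hc.eq]

/-- Adjusting an element to commute with one it normalises modulo a subgroup of `Q`. -/
theorem adjust (N : Subgroup G) (hNQ : N ≤ Q) {u c : G} (hu3 : u ^ 3 = 1)
    (hn : ∀ q ∈ N, u * q * u⁻¹ ∈ N) (hc : u⁻¹ * (c * u * c⁻¹) ∈ N) :
    ∃ q ∈ N, Commute (q⁻¹ * c) u := by
  have := h.finQ
  have : Finite N := Finite.of_injective _ (Subgroup.inclusion_injective hNQ)
  have h3N : ¬ 3 ∣ Nat.card N := fun hd => by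
    have := hd.trans (Subgroup.card_dvd_of_le hNQ)
    rw [h.fr.card] at this
    norm_num at this
  obtain ⟨q, hq, e⟩ := fix_conj h3N hu3 (v := c * u * c⁻¹) (by rw [conj_pow, hu3]; group) hn hc
  refine ⟨q, hq, ?_⟩
  show q⁻¹ * c * u = u * (q⁻¹ * c)
  calc q⁻¹ * c * u = q⁻¹ * (c * u * c⁻¹) * c := by group
    _ = q⁻¹ * (q * u * q⁻¹) * c := by rw [e]
    _ = u * (q⁻¹ * c) := by group

theorem same_action {c d : G} (hc : Commute c z) (hd : Commute d z)
    (e : ∀ k < 64, ac c k = ac d k) : c⁻¹ * d ∈ Q :=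
  h.fr.faithful _ (hc.inv_left.mul_left hd) fun k hk => by
    rw [h.fr.ac_mul hc.inv_left hd hk, ← e k hk, h.fr.ac_inv hc hk]

theorem ac_conj_comm {c u : G} (hc : Commute c z) (hu : Commute u z)
    (e : ∀ k < 64, ac c (ac u k) = ac u (ac c k)) : u⁻¹ * (c * u * c⁻¹) ∈ Q := by
  refine h.same_action hu ((hc.mul_left hu).mul_left hc.inv_left) fun k hk => ?_
  rw [h.fr.ac_conj hu hc hk, e _ (h.fr.ac_lt hc.inv_left hk), h.fr.ac_inv' hc hk]

theorem lift_comm {c : G} (hc : Commute c z) (e : ∀ k < 64, ac c (rot0 k) = rot0 (ac c k)) :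
    ∃ c', Commute c' z ∧ Commute c' y ∧ ∀ k < 64, ac c' k = ac c k := by
  obtain ⟨q, hq, hqy⟩ := h.adjust Q le_rfl h.y3 (fun q hq => h.fr.norm y h.yz q hq)
    (h.ac_conj_comm hc h.yz fun k hk => by rw [h.yr k hk, h.yr _ (h.fr.ac_lt hc hk), e k hk])
  refine ⟨q⁻¹ * c, (h.fr.es.comm _ (inv_mem hq)).mul_left hc, hqy, fun k hk => ?_⟩
  rw [h.fr.ac_mul (h.fr.es.comm _ (inv_mem hq)) hc hk, h.fr.ac_Q (inv_mem hq) (h.fr.ac_lt hc hk)]

theorem cube_mem {c : G} (hc : Commute c z) (e : ∀ k < 64, ac c (ac c (ac c k)) = k) :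
    (c ^ 4) ^ 3 = 1 ∧ ∀ k < 64, ac (c ^ 4) k = ac c k := by
  have hc3 : c ^ 3 ∈ Q := by
    refine h.fr.faithful _ (hc.pow_left 3) fun k hk => ?_
    rw [pow_succ, pow_two, h.fr.ac_mul (hc.mul_left hc) hc hk,
      h.fr.ac_mul hc hc (h.fr.ac_lt hc hk), e k hk]
  refine ⟨by rw [← pow_mul, show 4 * 3 = 3 * 4 by norm_num, pow_mul]; exact h.pow_four hc3,
    fun k hk => ?_⟩
  rw [show c ^ 4 = c ^ 3 * c by rw [← pow_succ], h.fr.ac_mul (hc.pow_left 3) hc hk,
    h.fr.ac_Q hc3 (h.fr.ac_lt hc hk)]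

theorem exists_rot2_lift : ∃ y1 y2 : G, (Commute y1 z ∧ Commute y1 y ∧ y1 ^ 3 = 1 ∧
      ∀ k < 64, ac y1 k = rot1 k) ∧
    (Commute y2 z ∧ Commute y2 y ∧ y2 ^ 3 = 1 ∧ ∀ k < 64, ac y2 k = rot2 k) ∧ Commute y2 y1 := by
  obtain ⟨c, hc, hck⟩ := h.fr.exists_pair 3 (by norm_num) 13 (by norm_num) (by decide) (by decide)
  have hc1 : ∀ k < 64, ac c k = rot1 k := fun k hk => (hck k hk).trans (gens_pr k hk).1.symm
  obtain ⟨c', hc', hcy, hck'⟩ := h.lift_comm hc fun k hk => by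
    have h0 : rot0 k < 64 := h.yr k hk ▸ h.fr.ac_lt h.yz hk
    rw [hc1 k hk, hc1 _ h0, (gens_comm k hk).1]
  have e1 : ∀ k < 64, ac c' k = rot1 k := fun k hk => (hck' k hk).trans (hc1 k hk)
  obtain ⟨o1, a1⟩ := h.cube_mem hc' fun k hk => by
    have l1 : rot1 k < 64 := by rw [← e1 k hk]; exact h.fr.ac_lt hc' hk
    have l2 : rot1 (rot1 k) < 64 := by rw [← e1 _ l1]; exact h.fr.ac_lt hc' l1
    rw [e1 k hk, e1 _ l1, e1 _ l2, (rot_cube k hk).2.1]
  have k1 : ∀ k < 64, ac (c' ^ 4) k = rot1 k := fun k hk => (a1 k hk).trans (e1 k hk)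
  have y1z := hc'.pow_left 4
  have y1y := hcy.pow_left 4
  obtain ⟨d, hd, hdk⟩ := h.fr.exists_pair 12 (by norm_num) 7 (by norm_num) (by decide) (by decide)
  have hd1 : ∀ k < 64, ac d k = rot2 k := fun k hk => (hdk k hk).trans (gens_pr k hk).2.1.symm
  obtain ⟨d', hd', hdy, hdk'⟩ := h.lift_comm hd fun k hk => by
    have h0 : rot0 k < 64 := h.yr k hk ▸ h.fr.ac_lt h.yz hk
    rw [hd1 k hk, hd1 _ h0, (gens_comm k hk).2.1]
  have e2 : ∀ k < 64, ac d' k = rot2 k := fun k hk => (hdk' k hk).trans (hd1 k hk)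
  obtain ⟨q, ⟨hqQ, hqy⟩, hq1⟩ := h.adjust (Q ⊓ Subgroup.centralizer ({y} : Set G)) inf_le_left
    (u := c' ^ 4) (c := d') o1 (fun q hq => ⟨h.fr.norm _ y1z q hq.1,
      Subgroup.mem_centralizer_singleton_iff.2
        ((y1y.mul_left (Subgroup.mem_centralizer_singleton_iff.1 hq.2)).mul_left y1y.inv_left).eq⟩)
    ⟨h.ac_conj_comm hd' y1z fun k hk => by
        have h1 : rot1 k < 64 := k1 k hk ▸ h.fr.ac_lt y1z hk
        rw [k1 k hk, e2 k hk, e2 _ h1, k1 _ (e2 k hk ▸ h.fr.ac_lt hd' hk), (gens_comm k hk).2.2.2.2.1],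
      Subgroup.mem_centralizer_singleton_iff.2
        (y1y.inv_left.mul_left ((hdy.mul_left y1y).mul_left hdy.inv_left)).eq⟩
  have hqy' : Commute q y := Subgroup.mem_centralizer_singleton_iff.1 hqy
  set e := q⁻¹ * d' with he
  have ez : Commute e z := (h.fr.es.comm _ (inv_mem hqQ)).mul_left hd'
  have ek : ∀ k < 64, ac e k = rot2 k := fun k hk => by
    rw [he, h.fr.ac_mul (h.fr.es.comm _ (inv_mem hqQ)) hd' hk,
      h.fr.ac_Q (inv_mem hqQ) (h.fr.ac_lt hd' hk), e2 k hk]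
  obtain ⟨o2, a2⟩ := h.cube_mem ez fun k hk => by
    have l1 : rot2 k < 64 := by rw [← ek k hk]; exact h.fr.ac_lt ez hk
    have l2 : rot2 (rot2 k) < 64 := by rw [← ek _ l1]; exact h.fr.ac_lt ez l1
    rw [ek k hk, ek _ l1, ek _ l2, (rot_cube k hk).2.2]
  exact ⟨c' ^ 4, e ^ 4, ⟨y1z, y1y, o1, k1⟩,
    ⟨ez.pow_left 4, (hqy'.inv_left.mul_left hdy).pow_left 4, o2, fun k hk => (a2 k hk).trans (ek k hk)⟩,
    hq1.pow_left 4⟩

theorem exists_flp : ∃ r, Commute r z ∧ Commute r y ∧ ∀ k < 64, ac r k = flp k := by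
  obtain ⟨c, hc, hck⟩ := h.fr.exists_pair 3 (by norm_num) 12 (by norm_num) (by decide) (by decide)
  have hc1 : ∀ k < 64, ac c k = flp k := fun k hk => (hck k hk).trans (gens_pr k hk).2.2.1.symm
  obtain ⟨c', hc', hcy, hck'⟩ := h.lift_comm hc fun k hk => by
    have h0 : rot0 k < 64 := h.yr k hk ▸ h.fr.ac_lt h.yz hk
    rw [hc1 k hk, hc1 _ h0, (gens_comm k hk).2.2.1]
  exact ⟨c', hc', hcy, fun k hk => (hck' k hk).trans (hc1 k hk)⟩

theorem exists_swq : ∃ s, Commute s z ∧ Commute s y ∧ ∀ k < 64, ac s k = swq k := by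
  obtain ⟨c, hc, hck⟩ := h.fr.exists_pair 16 (by norm_num) 21 (by norm_num) (by decide) (by decide)
  obtain ⟨d, hd, hdk⟩ := h.fr.exists_pair 26 (by norm_num) 31 (by norm_num) (by decide) (by decide)
  have hc1 : ∀ k < 64, ac (c * d) k = swq k := fun k hk => by
    rw [h.fr.ac_mul hc hd hk, hck _ (h.fr.ac_lt hd hk), hdk k hk, (gens_pr k hk).2.2.2.1]
  obtain ⟨c', hc', hcy, hck'⟩ := h.lift_comm (hc.mul_left hd) fun k hk => by
    have h0 : rot0 k < 64 := h.yr k hk ▸ h.fr.ac_lt h.yz hk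
    rw [hc1 k hk, hc1 _ h0, (gens_comm k hk).2.2.2.1]
  exact ⟨c', hc', hcy, fun k hk => (hck' k hk).trans (hc1 k hk)⟩

/-- An element of `C(z)` inverting `y`. -/
theorem exists_inverting : ∃ c, Commute c z ∧ c * y * c⁻¹ = y⁻¹ := by
  obtain ⟨c, hc, hck⟩ := h.fr.exists_pr pair_16_12
  have := h.finQ
  have h3N : ¬ 3 ∣ Nat.card Q := by rw [h.fr.card]; norm_num
  have yi3 : y⁻¹ ^ 3 = 1 := by rw [inv_pow, h.y3, inv_one]
  have hyi : ∀ k < 64, ac y⁻¹ k = rot0 (rot0 k) := fun k hk => by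
    have h1 : rot0 k < 64 := h.yr k hk ▸ h.fr.ac_lt h.yz hk
    have h2 : rot0 (rot0 k) < 64 := h.yr _ h1 ▸ h.fr.ac_lt h.yz h1
    conv_lhs => rw [← (rot_cube k hk).1, ← h.yr _ h2]
    exact h.fr.ac_inv h.yz h2
  obtain ⟨q, hq, e⟩ := fix_conj h3N yi3 (v := c * y * c⁻¹) (by rw [conj_pow, h.y3]; group)
    (fun q hq => h.fr.norm _ h.yz.inv_left q hq)
    (h.same_action h.yz.inv_left ((hc.mul_left h.yz).mul_left hc.inv_left) fun k hk => by
      have hk' := h.fr.ac_lt hc.inv_left hk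
      rw [h.fr.ac_conj h.yz hc hk, h.yr _ hk', hck _ (h.yr _ hk' ▸ h.fr.ac_lt h.yz hk'),
        pr_inv _ hk', ← hck _ hk', h.fr.ac_inv' hc hk, hyi k hk])
  refine ⟨q⁻¹ * c, (h.fr.es.comm _ (inv_mem hq)).mul_left hc, ?_⟩
  calc q⁻¹ * c * y * (q⁻¹ * c)⁻¹ = q⁻¹ * (c * y * c⁻¹) * q := by group
    _ = _ := by rw [← e]; group

/-- An element of `C(z)` carrying an element acting as `rot1` to `y`. -/
theorem exists_move_y {u : G} (hu : Commute u z) (hu3 : u ^ 3 = 1) (huk : ∀ k < 64, ac u k = rot1 k) :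
    ∃ t, t * u * t⁻¹ = y := by
  obtain ⟨c, hc, hck⟩ := h.fr.exists_pair 3 (by norm_num) 17 (by norm_num) (by decide) (by decide)
  obtain ⟨d, hd, hdk⟩ := h.fr.exists_pair 34 (by norm_num) 63 (by norm_num) (by decide) (by decide)
  have hm : ∀ k < 64, ac (c * d) k = mov k := fun k hk => by
    rw [h.fr.ac_mul hc hd hk, hck _ (h.fr.ac_lt hd hk), hdk k hk, (gens_pr k hk).2.2.2.2.1]
  have hcd := hc.mul_left hd
  have := h.finQ
  obtain ⟨q, hq, e⟩ := fix_conj (N := Q) (by rw [h.fr.card]; norm_num) h.y3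
    (v := c * d * u * (c * d)⁻¹) (by rw [conj_pow, hu3]; group)
    (fun q hq => h.fr.norm _ h.yz q hq)
    (h.same_action h.yz ((hcd.mul_left hu).mul_left hcd.inv_left) fun k hk => by
      have hk' := h.fr.ac_lt hcd.inv_left hk
      rw [h.fr.ac_conj hu hcd hk, huk _ hk', hm _ (huk _ hk' ▸ h.fr.ac_lt hu hk'),
        (gens_comm _ hk').2.2.2.2.2, ← hm _ hk', h.fr.ac_inv' hcd hk, h.yr k hk])
  refine ⟨q⁻¹ * (c * d), ?_⟩
  calc q⁻¹ * (c * d) * u * (q⁻¹ * (c * d))⁻¹ = q⁻¹ * (c * d * u * (c * d)⁻¹) * q := by group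
    _ = _ := by rw [← e]; group

end Rot

/-- Generators of the centraliser of `y` in `C(z)`. -/
structure Gens (z : G) (Q : Subgroup G) (co : G → ℕ) (ac : G → ℕ → ℕ) (y y1 y2 r s : G) : Prop where
  rot : Rot z Q co ac y
  z1 : Commute y1 z
  c1 : Commute y1 y
  o1 : y1 ^ 3 = 1
  a1 : ∀ k < 64, ac y1 k = rot1 k
  z2 : Commute y2 z
  c2 : Commute y2 y
  o2 : y2 ^ 3 = 1
  a2 : ∀ k < 64, ac y2 k = rot2 k
  c21 : Commute y2 y1
  zr : Commute r z
  cr : Commute r y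
  ar : ∀ k < 64, ac r k = flp k
  zs : Commute s z
  cs : Commute s y
  as' : ∀ k < 64, ac s k = swq k

theorem Rot.exists_gens {z : G} {Q : Subgroup G} {co : G → ℕ} {ac : G → ℕ → ℕ} {y : G}
    (h : Rot z Q co ac y) : ∃ y1 y2 r s, Gens z Q co ac y y1 y2 r s := by
  obtain ⟨y1, y2, ⟨a, b, c, d⟩, ⟨a', b', c', d'⟩, e⟩ := h.exists_rot2_lift
  obtain ⟨r, hr, hry, hrk⟩ := h.exists_flp
  obtain ⟨s, hs, hsy, hsk⟩ := h.exists_swq
  exact ⟨y1, y2, r, s, h, a, b, c, d, a', b', c', d', e, hr, hry, hrk, hs, hsy, hsk⟩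

/-- The element with a word. -/
def wel (y y1 y2 r s : G) (t : ℕ × ℕ × ℕ × ℕ × ℕ) : G :=
  y ^ t.1 * (y1 ^ t.2.1 * (y2 ^ t.2.2.1 * (r ^ t.2.2.2.1 * s ^ t.2.2.2.2)))

namespace Gens

variable {z : G} {Q : Subgroup G} {co : G → ℕ} {ac : G → ℕ → ℕ} {y y1 y2 r s : G}
  (g : Gens z Q co ac y y1 y2 r s)
include g

theorem ac_pow {c : G} (hc : Commute c z) {f : ℕ → ℕ} (hf : ∀ k < 64, ac c k = f k) (n : ℕ) {k : ℕ}
    (hk : k < 64) : ac (c ^ n) k = it f n k := by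
  induction n with
  | zero => rw [pow_zero, g.rot.fr.ac_Q (one_mem Q) hk]; rfl
  | succ n ih =>
    rw [pow_succ', g.rot.fr.ac_mul hc (hc.pow_left n) hk, ih,
      hf _ (ih ▸ g.rot.fr.ac_lt (hc.pow_left n) hk)]
    rfl

theorem wel_z (t : ℕ × ℕ × ℕ × ℕ × ℕ) : Commute (wel y y1 y2 r s t) z :=
  (g.rot.yz.pow_left _).mul_left ((g.z1.pow_left _).mul_left ((g.z2.pow_left _).mul_left
    ((g.zr.pow_left _).mul_left (g.zs.pow_left _))))

theorem wel_y (t : ℕ × ℕ × ℕ × ℕ × ℕ) : Commute (wel y y1 y2 r s t) y :=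
  ((Commute.refl y).pow_left _).mul_left ((g.c1.pow_left _).mul_left ((g.c2.pow_left _).mul_left
    ((g.cr.pow_left _).mul_left (g.cs.pow_left _))))

theorem wel_ac (t : ℕ × ℕ × ℕ × ℕ × ℕ) {k : ℕ} (hk : k < 64) :
    ac (wel y y1 y2 r s t) k = wd t k := by
  have F := g.rot.fr
  have z4 := g.zs.pow_left t.2.2.2.2
  have z3 := g.zr.pow_left t.2.2.2.1
  have z2 := g.z2.pow_left t.2.2.1
  have z1 := g.z1.pow_left t.2.1
  have z0 := g.rot.yz.pow_left t.1
  have m34 := z3.mul_left z4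
  have m234 := z2.mul_left m34
  have m1234 := z1.mul_left m234
  have l4 := F.ac_lt z4 hk
  rw [wel, F.ac_mul z0 m1234 hk, g.ac_pow g.rot.yz g.rot.yr _ (F.ac_lt m1234 hk),
    F.ac_mul z1 m234 hk, g.ac_pow g.z1 g.a1 _ (F.ac_lt m234 hk), F.ac_mul z2 m34 hk,
    g.ac_pow g.z2 g.a2 _ (F.ac_lt m34 hk), F.ac_mul z3 z4 hk, g.ac_pow g.zr g.ar _ l4,
    g.ac_pow g.zs g.as' _ hk]
  rfl

theorem wd_iso (t : ℕ × ℕ × ℕ × ℕ × ℕ) : Iso6 (wd t) := by
  have h := g.rot.fr.iso (g.wel_z t)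
  refine ⟨fun k hk => ?_, fun j hj k hk => ?_, fun k hk => ?_⟩
  · rw [← g.wel_ac t hk]; exact h.lt k hk
  · rw [← g.wel_ac t (xor_lt hj hk), ← g.wel_ac t hj, ← g.wel_ac t hk]; exact h.add j hj k hk
  · rw [← g.wel_ac t hk]; exact h.pres k hk

/-- The action of an element of the centraliser is that of a word. -/
theorem classify {c : G} (hc : Commute c z) (hcy : Commute c y) :
    ∃ t ∈ idx, ∀ k < 64, ac c k = wd t k := by
  have F := g.rot.fr
  have hf := F.iso hc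
  set f := ac c with hfd
  have hr : ∀ k < 64, f (rot0 k) = rot0 (f k) := fun k hk => by
    have := F.ac_mul hc g.rot.yz hk
    rw [hcy.eq, F.ac_mul g.rot.yz hc hk, g.rot.yr k hk, g.rot.yr _ (F.ac_lt hc hk)] at this
    exact this.symm
  have low : ∀ k < 16, f k < 16 := fun k hk => by
    have hk' : k < 64 := by omega
    refine (rot0_fixed _ (hf.lt k hk')).1 ?_
    rw [← hr k hk', (rot0_fixed k hk').2 hk]
  have hq : ∀ k < 16, qn k = true → f k ∈ ns16 := fun k hk hqk =>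
    mem_ns16 _ (low k hk) ((hf.pres k (by omega)).trans hqk)
  have h16 : f 16 ∈ [16, 32, 48] := by
    have e : f 16 = f 32 ^^^ rot0 (f 32) := by
      rw [← hr 32 (by norm_num), ← hf.add 32 (by norm_num) _ (show rot0 32 < 64 by decide)]
      rfl
    have h0 : f 16 ≠ 0 := fun e0 => by
      have := hf.pres 16 (by norm_num)
      rw [e0] at this
      cases this
    rcases mem_plane _ (hf.lt 32 (by norm_num)) with e' | e'
    · exact absurd (e.trans e') h0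
    · exact e ▸ e'
  have bne : ∀ j k, j < 16 → k < 16 → bn (f j) (f k) = bn j k := fun j k hj hk =>
    hf.bn_eq (by omega) (by omega)
  have hfext : ∀ k ∈ [1, 2, 4, 8, 16, 32], ext5 (f 16) (f 3) (f 13) (f 12) (f 7) k = f k := by
    have a := fun j k (hj : j < 64) (hk : k < 64) => hf.add j hj k hk
    obtain ⟨u1, u2, u4, u8, u16, u32⟩ := lin_units (f 13 ^^^ f 12) (f 3 ^^^ f 13 ^^^ f 12) (f 7 ^^^ f 3)
      (f 12 ^^^ f 7 ^^^ f 3) (f 16) (rot0 (f 16))
    intro k hk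
    fin_cases hk
    · exact u1.trans (a 13 12 (by norm_num) (by norm_num)).symm
    · refine u2.trans ?_
      rw [← a 3 13 (by norm_num) (by norm_num), ← a (3 ^^^ 13) 12 (by decide) (by norm_num)]
      rfl
    · exact u4.trans (a 7 3 (by norm_num) (by norm_num)).symm
    · refine u8.trans ?_
      rw [← a 12 7 (by norm_num) (by norm_num), ← a (12 ^^^ 7) 3 (by decide) (by norm_num)]
      rfl
    · exact u16
    · exact u32.trans (hr 16 (by norm_num)).symm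
  have key := List.all_eq_true.1 wd_complete_aux _ h16
  have key := List.all_eq_true.1 (List.all_eq_true.1 key _ (hq 3 (by norm_num) (by decide)))
    _ (hq 13 (by norm_num) (by decide))
  rw [bne 3 13 (by norm_num) (by norm_num), show bn 3 13 = true from rfl, Bool.not_true,
    Bool.false_or] at key
  have key := List.all_eq_true.1 key _ (hq 12 (by norm_num) (by decide))
  rw [bne 3 12 (by norm_num) (by norm_num), bne 13 12 (by norm_num) (by norm_num),
    show bn 3 12 = false from rfl, show bn 13 12 = false from rfl, Bool.false_or, Bool.false_or] at key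
  have key := List.all_eq_true.1 key _ (hq 7 (by norm_num) (by decide))
  rw [bne 3 7 (by norm_num) (by norm_num), bne 13 7 (by norm_num) (by norm_num),
    bne 12 7 (by norm_num) (by norm_num), show bn 3 7 = false from rfl, show bn 13 7 = false from rfl,
    show bn 12 7 = true from rfl, Bool.not_true, Bool.false_or, Bool.false_or, Bool.false_or] at key
  obtain ⟨t, ht, hsp⟩ := List.any_eq_true.1 key
  simp only [Bool.or_eq_true, Bool.and_eq_true, Nat.beq_eq] at hsp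
  have hr3 := refl_iso_gen (v := 3) (by norm_num) (Or.inl (by decide))
  rcases hsp with ⟨b16, ⟨⟨b3, b13⟩, b12⟩, b7⟩ | ⟨b16, ⟨⟨b3, b13⟩, b12⟩, b7⟩
  · refine ⟨t, ht, fun k hk => ext_basis hf (g.wd_iso t) (fun k hk => ?_) hk⟩
    rw [← hfext k hk, ← b16, ← b3, ← b13, ← b12, ← b7, (wd_ext t ht k hk).1]
  · exfalso
    have e16 : wd t (refl 3 16) = wd t 16 := rfl
    have hall : ∀ k < 64, f k = wd t (refl 3 k) := fun k hk =>
      ext_basis hf ((g.wd_iso t).comp hr3.1) (fun k hk => by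
        rw [← hfext k hk, ← b16, ← b3, ← b13, ← b12, ← b7, ← e16, (wd_ext t ht k hk).2]) hk
    refine F.not_refl ((wel y y1 y2 r s t)⁻¹ * c) ((g.wel_z t).inv_left.mul_left hc) 3 (by norm_num)
      (by decide) fun k hk => ?_
    rw [F.ac_mul (g.wel_z t).inv_left hc hk, ← hfd, hall k hk, ← g.wel_ac t (hr3.1.lt k hk),
      F.ac_inv (g.wel_z t) (hr3.1.lt k hk)]

/-- Every element of the centraliser is a word times an element of `Q`. -/
theorem classify' {c : G} (hc : Commute c z) (hcy : Commute c y) :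
    ∃ t ∈ idx, ∃ q ∈ Q, co q < 16 ∧ c = wel y y1 y2 r s t * q := by
  obtain ⟨t, ht, hk⟩ := g.classify hc hcy
  have hq : (wel y y1 y2 r s t)⁻¹ * c ∈ Q :=
    g.rot.same_action (g.wel_z t) hc fun k hk' => by rw [g.wel_ac t hk', hk k hk']
  refine ⟨t, ht, _, hq, (g.rot.commute_y_iff hq).1 ?_, by group⟩
  exact ((g.wel_y t).inv_left.mul_left hcy).symm

end Gens

end Cfsg.Agent.Lib.SuzCent37
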