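import Cfsg.Agent.Lib.SuzCent37.Elements
import Cfsg.Agent.Lib.Balance.Locals

/-!
# Suzuki type: the local hypotheses of type `U₄(3)` in an image of `C(z) ∩ C(y)` by `⟨y⟩`

Owner: helper37.
-/

set_option autoImplicit false

namespace Cfsg.Agent.Lib.SuzCent37

open Cfsg.Agent.Lib.SuzType52 Cfsg.Agent.Lib.PGroups

/-- A group generated by a triple with the relations, of order at least `24`, is `SL(2, 3)`. -/
theorem sl_of {H : Type*} [Group H] [Finite H] {i j u : H} (hr : SLRel i j u)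
    (hcard : 24 ≤ Nat.card ↥(Subgroup.closure ({i, j, u} : Set H))) :
    Nonempty (↥(Subgroup.closure ({i, j, u} : Set H)) ≃* Matrix.SpecialLinearGroup (Fin 2) (ZMod 3)) := by
  set S := Subgroup.closure ({i, j, u} : Set H) with hS
  have hi : i ∈ S := Subgroup.subset_closure (by simp)
  have hj : j ∈ S := Subgroup.subset_closure (by simp)
  have hu : u ∈ S := Subgroup.subset_closure (by simp)
  obtain ⟨a, b, c, d, e, f⟩ := hr
  refine nonempty_sl_equiv (i := (⟨i, hi⟩ : S)) (j := ⟨j, hj⟩) (g := ⟨u, hu⟩)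
    ⟨Subtype.ext a, Subtype.ext b, Subtype.ext c, Subtype.ext d, Subtype.ext e, Subtype.ext f⟩ ?_ hcard
  have h : ({⟨i, hi⟩, ⟨j, hj⟩, ⟨u, hu⟩} : Set S) = ((↑) : S → H) ⁻¹' {i, j, u} := by
    ext x
    simp [Subtype.ext_iff]
  rw [h]
  exact Subgroup.closure_closure_coe_preimage

variable {G : Type*} [Group G] {z : G} {Q : Subgroup G} {co : G → ℕ} {ac : G → ℕ → ℕ}
  {y y1 y2 r s i1 j1 i2 j2 : G}

/-- The elements commuting with the first rotation modulo `Q`. -/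
def comRot (g : Gens z Q co ac y y1 y2 r s) : Subgroup (cen z y) where
  carrier := {m | ∀ k < 64, ac (m : G) (rot1 k) = rot1 (ac (m : G) k)}
  one_mem' := fun k hk => by
    have hk' : rot1 k < 64 := g.a1 k hk ▸ g.rot.fr.ac_lt g.z1 hk
    rw [Subgroup.coe_one, g.rot.fr.ac_Q (one_mem Q) hk, g.rot.fr.ac_Q (one_mem Q) hk']
  mul_mem' := fun {a b} ha hb k hk => by
    have hk' : rot1 k < 64 := g.a1 k hk ▸ g.rot.fr.ac_lt g.z1 hk
    have za := (mem_cen.1 a.2).1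
    have zb := (mem_cen.1 b.2).1
    rw [Subgroup.coe_mul, g.rot.fr.ac_mul za zb hk', g.rot.fr.ac_mul za zb hk, hb k hk,
      ha _ (g.rot.fr.ac_lt zb hk)]
  inv_mem' := fun {a} ha k hk => by
    have za := (mem_cen.1 a.2).1
    have hk1 := g.rot.fr.ac_lt za.inv_left hk
    have e := ha _ hk1
    rw [g.rot.fr.ac_inv' za hk] at e
    rw [Subgroup.coe_inv, ← e, g.rot.fr.ac_inv za]
    rw [← g.a1 _ hk1]
    exact g.rot.fr.ac_lt g.z1 hk1

/-- The elements fixing `16` modulo `Q`. -/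
def fix16 (g : Gens z Q co ac y y1 y2 r s) : Subgroup (cen z y) where
  carrier := {m | ac (m : G) 16 = 16}
  one_mem' := g.rot.fr.ac_Q (one_mem Q) (by norm_num)
  mul_mem' := fun {a b} ha hb => by
    show ac ((a : G) * b) 16 = 16
    rw [g.rot.fr.ac_mul (mem_cen.1 a.2).1 (mem_cen.1 b.2).1 (by norm_num),
      show ac (b : G) 16 = 16 from hb]
    exact ha
  inv_mem' := fun {a} ha => by
    show ac (a : G)⁻¹ 16 = 16
    conv_lhs => rw [← show ac (a : G) 16 = 16 from ha]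
    exact g.rot.fr.ac_inv (mem_cen.1 a.2).1 (by norm_num)

/-- A quotient of `C(z) ∩ C(y)` by `⟨y⟩`. -/
structure Proj (g : Gens z Q co ac y y1 y2 r s) {H : Type*} [Group H] (π : cen z y →* H) : Prop where
  surj : Function.Surjective π
  ker : ∀ m, π m = 1 ↔ (m : G) ∈ Subgroup.zpowers y

namespace Proj

variable {g : Gens z Q co ac y y1 y2 r s} {H : Type*} [Group H] [Finite H] {π : cen z y →* H}
  (P : Proj g π)
include P

theorem kerPow {m : cen z y} (h : π m = 1) : ∃ n < 3, (m : G) = y ^ n := by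
  have hf : IsOfFinOrder y := isOfFinOrder_iff_pow_eq_one.2 ⟨3, by norm_num, g.rot.y3⟩
  obtain ⟨n, hn⟩ := hf.mem_powers_iff_mem_zpowers.2 ((P.ker m).1 h)
  refine ⟨n % 3, Nat.mod_lt _ (by norm_num), hn.symm.trans ?_⟩
  show y ^ n = _
  conv_lhs => rw [← Nat.mod_add_div n 3, pow_add, pow_mul, g.rot.y3, one_pow, mul_one]

theorem eq_of_fix16 {m m' : cen z y} (hm : m ∈ fix16 g) (hm' : m' ∈ fix16 g) (e : π m = π m') :
    m = m' := by
  have h1 : π (m'⁻¹ * m) = 1 := by rw [map_mul, map_inv, e, inv_mul_cancel]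
  obtain ⟨n, hn, hy⟩ := P.kerPow h1
  have hf : ac ((m'⁻¹ * m : cen z y) : G) 16 = 16 := mul_mem (inv_mem hm') hm
  rw [hy, g.ac_pow g.rot.yz g.rot.yr n (by norm_num : (16 : ℕ) < 64)] at hf
  have h0 : n = 0 := by
    have key : ∀ n < 3, it rot0 n 16 = 16 → n = 0 := by decide +kernel
    exact key n hn hf
  rw [h0, pow_zero] at hy
  exact (inv_mul_eq_one.1 (Subtype.ext hy)).symm

theorem Q_fix16 {m : cen z y} (h : (m : G) ∈ Q) : m ∈ fix16 g := g.rot.fr.ac_Q h (by norm_num)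

theorem Q_comRot {m : cen z y} (h : (m : G) ∈ Q) : m ∈ comRot g := fun k hk => by
  have hk' : rot1 k < 64 := g.a1 k hk ▸ g.rot.fr.ac_lt g.z1 hk
  rw [g.rot.fr.ac_Q h hk, g.rot.fr.ac_Q h hk']

theorem cube_mem {m : cen z y} (hm : m ∈ comRot g) : ((m ^ 3 : cen z y) : G) ∈ Q := by
  obtain ⟨t, ht, hk⟩ := g.classify (mem_cen.1 m.2).1 (mem_cen.1 m.2).2
  have h0 : t.2.2.2.1 = 0 ∧ t.2.2.2.2 = 0 := wd_cent1 t ht fun k hk' => by
    have h64 : k < 64 := by simp at hk'; omega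
    have hk1 : rot1 k < 64 := g.a1 k h64 ▸ g.rot.fr.ac_lt g.z1 h64
    rw [← hk _ hk1, ← hk k h64, hm k h64]
  obtain ⟨a, b, c, d, e⟩ := t
  obtain ⟨rfl, rfl⟩ : d = 0 ∧ e = 0 := h0
  have hw : wel y y1 y2 r s (a, b, c, 0, 0) ^ 3 = 1 := by
    have c1 : Commute (y ^ a) (y1 ^ b * y2 ^ c) :=
      (g.c1.symm.pow_pow _ _).mul_right (g.c2.symm.pow_pow _ _)
    have c2 : Commute (y1 ^ b) (y2 ^ c) := g.c21.symm.pow_pow _ _
    show (y ^ a * (y1 ^ b * (y2 ^ c * (r ^ 0 * s ^ 0)))) ^ 3 = 1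
    simp only [pow_zero, mul_one]
    rw [c1.mul_pow, c2.mul_pow, ← pow_mul, ← pow_mul, ← pow_mul, mul_comm a, mul_comm b, mul_comm c,
      pow_mul, pow_mul, pow_mul, g.rot.y3, g.o1, g.o2, one_pow, one_pow, one_pow, one_mul, one_mul]
  refine g.rot.fr.faithful _ ((mem_cen.1 m.2).1.pow_left 3) fun k hk' => ?_
  rw [Subgroup.coe_pow, g.ac_pow (mem_cen.1 m.2).1 hk 3 hk',
    ← g.ac_pow (g.wel_z _) (fun k hk => g.wel_ac _ hk) 3 hk', hw, g.rot.fr.ac_Q (one_mem Q) hk']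

theorem two_mem {m : cen z y} (hm : m ∈ comRot g) {k : ℕ} (hk : π m ^ (2 ^ k) = 1) :
    π m ∈ (Q.subgroupOf (cen z y)).map π := by
  have hco : Nat.Coprime 3 (orderOf (π m)) :=
    Nat.Coprime.coprime_dvd_right (orderOf_dvd_of_pow_eq_one hk) (Nat.Coprime.pow_right k (by norm_num))
  obtain ⟨n, hn⟩ := exists_pow_eq_self_of_coprime hco
  rw [← hn, ← map_pow, ← map_pow]
  exact ⟨_, pow_mem (show m ^ 3 ∈ Q.subgroupOf (cen z y) from P.cube_mem hm) n, rfl⟩

theorem normal_Qsub : ((Q.subgroupOf (cen z y)).map π).Normal := by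
  have : (Q.subgroupOf (cen z y)).Normal :=
    ⟨fun q hq c => g.rot.fr.norm c.1 (mem_cen.1 c.2).1 q.1 hq⟩
  exact Subgroup.Normal.map this π P.surj

theorem isPGroup_Qsub : IsPGroup 2 ((Q.subgroupOf (cen z y)).map π) :=
  (IsPGroup.of_card (n := 5) (by rw [g.card_Q_cen]; norm_num)).map π

theorem pCore_le_comRot {m : cen z y} (hm : π m ∈ Cfsg.pCore 2 H) : m ∈ comRot g := by
  have F := g.rot.fr
  have mz := (mem_cen.1 m.2).1
  set Y1 : cen z y := ⟨y1, mem_cen.2 ⟨g.z1, g.c1⟩⟩ with hY1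
  obtain ⟨t, ht, hk⟩ := g.classify mz (mem_cen.1 m.2).2
  obtain ⟨j, hj, l, hl, he⟩ := wd_rot1 t ht
  have hW : ∀ k < 64, wd t (rot1 k) = wd (0, j, l, 0, 0) (wd t k) := fun k hk => by
    have hr : Iso6 rot1 := by
      have := F.iso g.z1
      exact ⟨fun k hk => g.a1 k hk ▸ this.lt k hk,
        fun a ha b hb => by rw [← g.a1 _ (xor_lt ha hb), ← g.a1 a ha, ← g.a1 b hb]; exact this.add a ha b hb,
        fun k hk => by rw [← g.a1 k hk]; exact this.pres k hk⟩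
    exact ext_basis ((g.wd_iso t).comp hr) ((g.wd_iso (0, j, l, 0, 0)).comp (g.wd_iso t)) he hk
  set e := wel y y1 y2 r s (0, j, l, 0, 0) with he'
  set c := m * Y1 * m⁻¹ with hc
  have hck : ∀ k < 64, ac (c : G) k = ac e k := fun k hk' => by
    have h1 := F.ac_lt mz.inv_left hk'
    show ac ((m : G) * y1 * (m : G)⁻¹) k = _
    rw [F.ac_conj g.z1 mz hk', g.a1 _ h1, hk _ (g.a1 _ h1 ▸ F.ac_lt g.z1 h1), hW _ h1, ← hk _ h1,
      F.ac_inv' mz hk', g.wel_ac _ hk']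
  have ey1 : Commute e y1 := by
    show Commute (y ^ 0 * (y1 ^ j * (y2 ^ l * (r ^ 0 * s ^ 0)))) y1
    simp only [pow_zero, mul_one, one_mul]
    exact ((Commute.refl y1).pow_left j).mul_left (g.c21.pow_left l)
  have hcP : c ∈ comRot g := fun k hk' => by
    have hk1 : rot1 k < 64 := g.a1 k hk' ▸ F.ac_lt g.z1 hk'
    rw [hck _ hk1, hck k hk', ← g.a1 k hk', ← F.ac_mul (g.wel_z _) g.z1 hk', ← he', ey1.eq,
      F.ac_mul g.z1 (g.wel_z _) hk', g.a1 _ (F.ac_lt (g.wel_z _) hk')]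
  have hcf : c ∈ fix16 g := by
    show ac (c : G) 16 = 16
    rw [hck _ (by norm_num), he', g.wel_ac _ (by norm_num : (16 : ℕ) < 64)]
    exact (by decide +kernel : ∀ j < 3, ∀ l < 3, wd (0, j, l, 0, 0) 16 = 16) j hj l hl
  have hYP : Y1 ∈ comRot g := fun k hk' => by
    have hk1 : rot1 k < 64 := g.a1 k hk' ▸ F.ac_lt g.z1 hk'
    show ac y1 (rot1 k) = rot1 (ac y1 k)
    rw [g.a1 _ hk1, g.a1 k hk']
  have hYf : Y1 ∈ fix16 g := (g.a1 16 (by norm_num)).trans (by decide +kernel)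
  have hm' : π (c * Y1⁻¹) ∈ Cfsg.pCore 2 H := by
    have hN : (Cfsg.pCore 2 H).Normal := inferInstance
    rw [hc, map_mul, map_mul, map_mul, map_inv, map_inv, mul_assoc, mul_assoc]
    exact mul_mem hm (by rw [← mul_assoc]; exact hN.conj_mem _ (inv_mem hm) _)
  obtain ⟨k, hk2⟩ := (Cores.pCore_isPGroup (G := H) 2) ⟨_, hm'⟩
  obtain ⟨q, hq, eq⟩ := P.two_mem (mul_mem hcP (inv_mem hYP)) (congrArg Subtype.val hk2)
  have hq' : c * Y1⁻¹ = q := P.eq_of_fix16 (mul_mem hcf (inv_mem hYf)) (P.Q_fix16 hq) eq.symm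
  have hqQ : (q : G) ∈ Q := hq
  have hcq : (c : G) = (q : G) * y1 := by
    rw [← hq', Subgroup.coe_mul, Subgroup.coe_inv]
    exact (inv_mul_cancel_right _ _).symm
  intro k hk'
  have h1 : ac (c : G) (ac (m : G) k) = ac (m : G) (rot1 k) := by
    show ac ((m : G) * y1 * (m : G)⁻¹) (ac (m : G) k) = _
    rw [F.ac_conj g.z1 mz (F.ac_lt mz hk'), F.ac_inv mz hk', g.a1 k hk']
  rw [← h1, hcq, F.ac_mul (F.es.comm _ hqQ) g.z1 (F.ac_lt mz hk'),
    F.ac_Q hqQ (F.ac_lt g.z1 (F.ac_lt mz hk')), g.a1 _ (F.ac_lt mz hk')]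

theorem pCore_eq : Cfsg.pCore 2 H = (Q.subgroupOf (cen z y)).map π := by
  refine le_antisymm (fun h hh => ?_) ?_
  · obtain ⟨m, rfl⟩ := P.surj h
    obtain ⟨k, hk⟩ := (Cores.pCore_isPGroup (G := H) 2) ⟨_, hh⟩
    exact P.two_mem (P.pCore_le_comRot hh) (congrArg Subtype.val hk)
  · have := P.normal_Qsub
    exact Cores.le_pCore P.isPGroup_Qsub

theorem card_eq : Nat.card H = 2 ^ 7 * 3 ^ 2 := by
  have h1 := Subgroup.index_ker π
  rw [MonoidHom.range_eq_top.2 P.surj, Subgroup.card_top] at h1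
  have h2 := Subgroup.card_mul_index π.ker
  have h3 : π.ker.map (cen z y).subtype = Subgroup.zpowers y := by
    ext w
    constructor
    · rintro ⟨m, hm, rfl⟩
      exact (P.ker m).1 hm
    · intro hw
      have hle : Subgroup.zpowers y ≤ cen z y := Subgroup.zpowers_le.2 g.rot.y_mem
      exact ⟨⟨w, hle hw⟩, (P.ker _).2 hw, rfl⟩
  have h4 : Nat.card π.ker = 3 := by
    rw [← Subgroup.card_map_of_injective (f := (cen z y).subtype) (cen z y).subtype_injective, h3,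
      Nat.card_zpowers, g.rot.orderOf_y]
  rw [h1, h4, g.card_cen] at h2
  omega

theorem centralizer_le :
    Subgroup.centralizer (((Q.subgroupOf (cen z y)).map π : Subgroup H) : Set H) ≤
      (Q.subgroupOf (cen z y)).map π := by
  intro h hh
  obtain ⟨m, rfl⟩ := P.surj h
  have F := g.rot.fr
  have mz := (mem_cen.1 m.2).1
  have hfix : ∀ k < 16, ac (m : G) k = k := fun k hk => by
    obtain ⟨q, hq, hqk⟩ := F.co_surj k (by omega)
    set q' : cen z y := ⟨q, g.rot.mem_cen_Q hq (hqk ▸ hk)⟩ with hq'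
    have h1 : (m : G) * q * (m : G)⁻¹ ∈ Q := F.norm _ mz q hq
    have e : π (m * q' * m⁻¹) = π q' := by
      rw [map_mul, map_mul, map_inv, ← Subgroup.mem_centralizer_iff.1 hh (π q') ⟨q', hq, rfl⟩,
        mul_inv_cancel_right]
    have e' := congrArg (fun x : cen z y => co (x : G))
      (P.eq_of_fix16 (m := m * q' * m⁻¹) (m' := q') (P.Q_fix16 h1) (P.Q_fix16 hq) e)
    simp only [Subgroup.coe_mul, Subgroup.coe_inv, hq'] at e'
    rwa [F.conj _ mz q hq, hqk] at e'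
  obtain ⟨t, ht, q, hq, hqc, e⟩ := g.classify' mz (mem_cen.1 m.2).2
  have hk : ∀ k < 16, wd t k = k := fun k hk => by
    have h0 := hfix k hk
    rwa [e, F.ac_mul (g.wel_z t) (F.es.comm _ hq) (by omega : k < 64), F.ac_Q hq (by omega : k < 64),
      g.wel_ac t (by omega : k < 64)] at h0
  obtain ⟨a, b, c, d, f⟩ := t
  obtain ⟨rfl, rfl, rfl, rfl⟩ : b = 0 ∧ c = 0 ∧ d = 0 ∧ f = 0 := wd_fix _ ht fun k hk' => hk k (by
    simp at hk'; omega)
  have hY : y ^ a ∈ cen z y := pow_mem g.rot.y_mem a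
  have hm : m = (⟨y ^ a, hY⟩ : cen z y) * ⟨q, g.rot.mem_cen_Q hq hqc⟩ := Subtype.ext (by
    rw [e]; simp [wel])
  refine ⟨⟨q, g.rot.mem_cen_Q hq hqc⟩, hq, ?_⟩
  rw [hm, map_mul, (P.ker ⟨y ^ a, hY⟩).2 (Subgroup.pow_mem _ (Subgroup.mem_zpowers y) a), one_mul]

end Proj

namespace Elts

/-- The first subgroup. -/
def H1 (E : Elts z Q co ac y y1 y2 r s i1 j1 i2 j2) {H : Type*} [Group H] (π : cen z y →* H) : Subgroup H :=
  Subgroup.closure ({π ⟨i1, E.p1.mem_i E.gens.rot⟩, π ⟨j1, E.p1.mem_j E.gens.rot⟩,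
    π ⟨y1, E.p1.mem_u E.gens.rot⟩} : Set H)

/-- The second subgroup. -/
def H2 (E : Elts z Q co ac y y1 y2 r s i1 j1 i2 j2) {H : Type*} [Group H] (π : cen z y →* H) : Subgroup H :=
  Subgroup.closure ({π ⟨i2, E.p2.mem_i E.gens.rot⟩, π ⟨j2, E.p2.mem_j E.gens.rot⟩,
    π ⟨y2, E.p2.mem_u E.gens.rot⟩} : Set H)

variable (E : Elts z Q co ac y y1 y2 r s i1 j1 i2 j2) {H : Type*} [Group H] [Finite H]
  {π : cen z y →* H} (P : Proj E.gens π)
include E P

theorem sl_plane {u i j : G} {p p' : ℕ} (hp : Pl z Q co ac y u p p' i j) (qp : qn p = true)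
    (qp' : qn p' = true) (hne : p ≠ p') (hu16 : ac u 16 = 16) :
    Nonempty (↥(Subgroup.closure ({π ⟨i, hp.mem_i E.gens.rot⟩, π ⟨j, hp.mem_j E.gens.rot⟩,
      π ⟨u, hp.mem_u E.gens.rot⟩} : Set H)) ≃* Matrix.SpecialLinearGroup (Fin 2) (ZMod 3)) := by
  set I : cen z y := ⟨i, hp.mem_i E.gens.rot⟩
  set J : cen z y := ⟨j, hp.mem_j E.gens.rot⟩
  set U : cen z y := ⟨u, hp.mem_u E.gens.rot⟩
  obtain ⟨a, b, c, d, e, f⟩ := hp.rel
  have hr : SLRel I J U :=
    ⟨Subtype.ext a, Subtype.ext b, Subtype.ext c, Subtype.ext d, Subtype.ext e, Subtype.ext f⟩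
  have hr' : SLRel (π I) (π J) (π U) := by
    obtain ⟨a, b, c, d, e, f⟩ := hr
    refine ⟨?_, ?_, ?_, ?_, ?_, ?_⟩
    · rw [← map_pow, a, map_one]
    · rw [← map_mul, b, map_mul]
    · rw [← map_inv, ← map_mul, ← map_mul, c, map_inv]
    · rw [← map_pow, d, map_one]
    · rw [← map_inv, ← map_mul, ← map_mul, e]
    · rw [← map_inv, ← map_mul, ← map_mul, f, map_mul]
  refine sl_of hr' ?_
  let φ : Fin 4 × Fin 2 × Fin 3 → Subgroup.closure ({π I, π J, π U} : Set H) := fun t =>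
    ⟨π (I ^ (t.1 : ℕ) * J ^ (t.2.1 : ℕ) * U ^ (t.2.2 : ℕ)), by
      simp only [map_mul, map_pow]
      exact mul_mem (mul_mem (pow_mem (Subgroup.subset_closure (by simp)) _)
        (pow_mem (Subgroup.subset_closure (by simp)) _)) (pow_mem (Subgroup.subset_closure (by simp)) _)⟩
  have hinj : Function.Injective φ := by
    rintro ⟨a, b, c⟩ ⟨a', b', c'⟩ h
    have hf : ∀ (a : Fin 4) (b : Fin 2) (c : Fin 3),
        I ^ (a : ℕ) * J ^ (b : ℕ) * U ^ (c : ℕ) ∈ fix16 E.gens := fun a b c =>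
      mul_mem (mul_mem (pow_mem (P.Q_fix16 hp.iQ) _) (pow_mem (P.Q_fix16 hp.jQ) _))
        (pow_mem (show U ∈ fix16 E.gens from hu16) _)
    have h' := congrArg Subtype.val (P.eq_of_fix16 (hf a b c) (hf a' b' c') (congrArg Subtype.val h))
    simp only [Subgroup.coe_mul, Subgroup.coe_pow] at h'
    obtain ⟨rfl, rfl, rfl⟩ := hp.prod_inj E.gens.rot qp qp' hne h'
    rfl
  have := Nat.card_le_card_of_injective φ hinj
  simpa [Nat.card_eq_fintype_card] using this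

theorem H1_map : E.H1 π = ((Subgroup.closure ({i1, j1, y1} : Set G)).subgroupOf (cen z y)).map π := by
  rw [H1, show ({π ⟨i1, E.p1.mem_i E.gens.rot⟩, π ⟨j1, E.p1.mem_j E.gens.rot⟩,
    π ⟨y1, E.p1.mem_u E.gens.rot⟩} : Set H) = π '' (((↑) : cen z y → G) ⁻¹' {i1, j1, y1}) by
      ext w
      constructor
      · rintro (rfl | rfl | rfl) <;> exact ⟨_, by simp, rfl⟩
      · rintro ⟨⟨v, hv⟩, (rfl | rfl | rfl), rfl⟩ <;> simp, ← MonoidHom.map_closure]
  congr 1
  refine (Subgroup.map_injective (cen z y).subtype_injective) ?_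
  rw [MonoidHom.map_closure, Subgroup.map_subgroupOf_eq_of_le, Subgroup.coe_subtype,
    Set.image_preimage_eq_of_subset]
  · intro a ha
    rw [Subtype.range_coe]
    rcases ha with rfl | rfl | rfl
    exacts [E.p1.mem_i E.gens.rot, E.p1.mem_j E.gens.rot, E.p1.mem_u E.gens.rot]
  · refine (Subgroup.closure_le _).2 ?_
    rintro a (rfl | rfl | rfl)
    exacts [E.p1.mem_i E.gens.rot, E.p1.mem_j E.gens.rot, E.p1.mem_u E.gens.rot]

theorem H2_map : E.H2 π = ((Subgroup.closure ({i2, j2, y2} : Set G)).subgroupOf (cen z y)).map π := by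
  rw [H2, show ({π ⟨i2, E.p2.mem_i E.gens.rot⟩, π ⟨j2, E.p2.mem_j E.gens.rot⟩,
    π ⟨y2, E.p2.mem_u E.gens.rot⟩} : Set H) = π '' (((↑) : cen z y → G) ⁻¹' {i2, j2, y2}) by
      ext w
      constructor
      · rintro (rfl | rfl | rfl) <;> exact ⟨_, by simp, rfl⟩
      · rintro ⟨⟨v, hv⟩, (rfl | rfl | rfl), rfl⟩ <;> simp, ← MonoidHom.map_closure]
  congr 1
  refine (Subgroup.map_injective (cen z y).subtype_injective) ?_
  rw [MonoidHom.map_closure, Subgroup.map_subgroupOf_eq_of_le, Subgroup.coe_subtype,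
    Set.image_preimage_eq_of_subset]
  · intro a ha
    rw [Subtype.range_coe]
    rcases ha with rfl | rfl | rfl
    exacts [E.p2.mem_i E.gens.rot, E.p2.mem_j E.gens.rot, E.p2.mem_u E.gens.rot]
  · refine (Subgroup.closure_le _).2 ?_
    rintro a (rfl | rfl | rfl)
    exacts [E.p2.mem_i E.gens.rot, E.p2.mem_j E.gens.rot, E.p2.mem_u E.gens.rot]

theorem Qb_le : (Q.subgroupOf (cen z y)).map π ≤ E.H1 π ⊔ E.H2 π := by
  have hle : ∀ {a b c : G}, a ∈ cen z y → b ∈ cen z y → c ∈ cen z y →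
      Subgroup.closure ({a, b, c} : Set G) ≤ cen z y := fun {a b c} ha hb hc =>
    (Subgroup.closure_le _).2 (by rintro w (rfl | rfl | rfl) <;> assumption)
  rw [E.H1_map P, E.H2_map P, ← Subgroup.map_sup, ← Subgroup.subgroupOf_sup
    (hle (E.p1.mem_i E.gens.rot) (E.p1.mem_j E.gens.rot) (E.p1.mem_u E.gens.rot))
    (hle (E.p2.mem_i E.gens.rot) (E.p2.mem_j E.gens.rot) (E.p2.mem_u E.gens.rot))]
  exact Subgroup.map_mono fun q hq => E.mem_sup_of_mem_Q hq (mem_cen.1 q.2).2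

theorem join_eq : E.H1 π ⊔ E.H2 π = (comRot E.gens).map π := by
  have g := E.gens
  refine le_antisymm (sup_le ?_ ?_) ?_
  · refine (Subgroup.closure_le _).2 ?_
    rintro w (rfl | rfl | rfl)
    · exact ⟨_, P.Q_comRot E.p1.iQ, rfl⟩
    · exact ⟨_, P.Q_comRot E.p1.jQ, rfl⟩
    · refine ⟨⟨y1, E.p1.mem_u E.gens.rot⟩, fun k hk => ?_, rfl⟩
      have hk1 : rot1 k < 64 := g.a1 k hk ▸ g.rot.fr.ac_lt g.z1 hk
      show ac y1 (rot1 k) = rot1 (ac y1 k)
      rw [g.a1 _ hk1, g.a1 k hk]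
  · refine (Subgroup.closure_le _).2 ?_
    rintro w (rfl | rfl | rfl)
    · exact ⟨_, P.Q_comRot E.p2.iQ, rfl⟩
    · exact ⟨_, P.Q_comRot E.p2.jQ, rfl⟩
    · refine ⟨⟨y2, E.p2.mem_u E.gens.rot⟩, fun k hk => ?_, rfl⟩
      have hk1 : rot1 k < 64 := g.a1 k hk ▸ g.rot.fr.ac_lt g.z1 hk
      show ac y2 (rot1 k) = rot1 (ac y2 k)
      rw [g.a2 _ hk1, g.a2 k hk, (gens_comm k hk).2.2.2.2.1]
  · rintro w ⟨m, hm, rfl⟩
    obtain ⟨t, ht, q, hq, hqc, e⟩ := g.classify' (mem_cen.1 m.2).1 (mem_cen.1 m.2).2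
    have h0 : t.2.2.2.1 = 0 ∧ t.2.2.2.2 = 0 := wd_cent1 t ht fun k hk' => by
      have h64 : k < 64 := by simp at hk'; omega
      have hk1 : rot1 k < 64 := g.a1 k h64 ▸ g.rot.fr.ac_lt g.z1 h64
      have e1 : ∀ j < 64, ac (m : G) j = wd t j := fun j hj => by
        rw [e, g.rot.fr.ac_mul (g.wel_z t) (g.rot.fr.es.comm _ hq) hj, g.rot.fr.ac_Q hq hj,
          g.wel_ac t hj]
      rw [← e1 _ hk1, ← e1 k h64, hm k h64]
    obtain ⟨a, b, c, d, f⟩ := t
    obtain ⟨rfl, rfl⟩ : d = 0 ∧ f = 0 := h0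
    have hY : y ^ a ∈ cen z y := pow_mem g.rot.y_mem a
    have em : m = (⟨y ^ a, hY⟩ : cen z y) * ((⟨y1, E.p1.mem_u E.gens.rot⟩ : cen z y) ^ b *
        (⟨y2, E.p2.mem_u E.gens.rot⟩ : cen z y) ^ c) * ⟨q, g.rot.mem_cen_Q hq hqc⟩ :=
      Subtype.ext (by rw [e]; simp [wel, mul_assoc])
    rw [em, map_mul, map_mul, map_mul, map_pow, map_pow,
      (P.ker ⟨y ^ a, hY⟩).2 (Subgroup.pow_mem _ (Subgroup.mem_zpowers y) a), one_mul]
    exact mul_mem (mul_mem (pow_mem (Subgroup.mem_sup_left (Subgroup.subset_closure (by simp))) _)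
      (pow_mem (Subgroup.mem_sup_right (Subgroup.subset_closure (by simp))) _))
      (E.Qb_le P ⟨_, hq, rfl⟩)

theorem join_eq_odd : E.H1 π ⊔ E.H2 π = Subgroup.closure {h : H | Odd (orderOf h)} := by
  set D : Subgroup H := Subgroup.closure {h : H | Odd (orderOf h)} with hD
  refine le_antisymm ?_ ((Subgroup.closure_le _).2 fun h hh => ?_)
  · have key : ∀ {i j u : H}, SLRel i j u → Subgroup.closure ({i, j, u} : Set H) ≤ D := by
      intro i j u ⟨_, _, _, hu3, e1, e2⟩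
      have odd : ∀ {w : H}, w ^ 3 = 1 → w ∈ D := fun {w} hw => Subgroup.subset_closure (by
        rcases (Nat.dvd_prime Nat.prime_three).1 (orderOf_dvd_of_pow_eq_one hw) with h | h <;>
          rw [Set.mem_setOf_eq, h] <;> decide)
      have hu : u ∈ D := odd hu3
      have hc : j * i⁻¹ ∈ D := by
        have : j * i⁻¹ = u * (i * u⁻¹ * i⁻¹) := by rw [← e1]; group
        rw [this]
        exact mul_mem hu (odd (by rw [conj_pow, inv_pow, hu3]; group))
      have hi : i ∈ D := by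
        have : u * (j * i⁻¹) * u⁻¹ = i := by
          calc u * (j * i⁻¹) * u⁻¹ = (u * j * u⁻¹) * (u * i * u⁻¹)⁻¹ := by group
            _ = i := by rw [e1, e2]; group
        rw [← this]
        exact mul_mem (mul_mem hu hc) (inv_mem hu)
      have hj : j ∈ D := by
        rw [← e1]
        exact mul_mem (mul_mem hu hi) (inv_mem hu)
      refine (Subgroup.closure_le _).2 ?_
      rintro w (rfl | rfl | rfl) <;> assumption
    have mapRel : ∀ {i j u : G} {p p' : ℕ} (hp : Pl z Q co ac y u p p' i j),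
        SLRel (π ⟨i, hp.mem_i E.gens.rot⟩) (π ⟨j, hp.mem_j E.gens.rot⟩) (π ⟨u, hp.mem_u E.gens.rot⟩) := by
      intro i j u p p' hp
      obtain ⟨a, b, c, d, e, f⟩ := hp.rel
      refine ⟨?_, ?_, ?_, ?_, ?_, ?_⟩
      · rw [← map_pow, ← map_one π]; exact congrArg π (Subtype.ext a)
      · rw [← map_mul, ← map_mul]; exact congrArg π (Subtype.ext b)
      · rw [← map_inv, ← map_inv, ← map_mul, ← map_mul]; exact congrArg π (Subtype.ext c)
      · rw [← map_pow, ← map_one π]; exact congrArg π (Subtype.ext d)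
      · rw [← map_inv, ← map_mul, ← map_mul]; exact congrArg π (Subtype.ext e)
      · rw [← map_inv, ← map_mul, ← map_mul, ← map_mul]; exact congrArg π (Subtype.ext f)
    exact sup_le (key (mapRel E.p1)) (key (mapRel E.p2))
  · obtain ⟨m, rfl⟩ := P.surj h
    have hsq : m * m ∈ comRot E.gens := fun k hk => by
      have g := E.gens
      have mz := (mem_cen.1 m.2).1
      obtain ⟨t, ht, e⟩ := g.classify mz (mem_cen.1 m.2).2
      have hk1 : rot1 k < 64 := g.a1 k hk ▸ g.rot.fr.ac_lt g.z1 hk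
      rw [Subgroup.coe_mul, g.rot.fr.ac_mul mz mz hk1, g.rot.fr.ac_mul mz mz hk,
        e _ (g.rot.fr.ac_lt mz hk1), e _ hk1, e _ (g.rot.fr.ac_lt mz hk), e k hk]
      have hr : Iso6 rot1 := by
        have := g.rot.fr.iso g.z1
        exact ⟨fun k hk => g.a1 k hk ▸ this.lt k hk,
          fun a ha b hb => by rw [← g.a1 _ (xor_lt ha hb), ← g.a1 a ha, ← g.a1 b hb]; exact this.add a ha b hb,
          fun k hk => by rw [← g.a1 k hk]; exact this.pres k hk⟩
      have hw := g.wd_iso t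
      exact ext_basis ((hw.comp hw).comp hr) (hr.comp (hw.comp hw)) (fun j hj => (wd_sq t ht j hj).1) hk
    obtain ⟨n, hn⟩ : ∃ n, π m = (π m ^ 2) ^ n := by
      obtain ⟨n, hn⟩ := exists_pow_eq_self_of_coprime (x := π m) (n := 2)
        (Nat.coprime_two_left.2 hh)
      exact ⟨n, hn.symm⟩
    rw [SetLike.mem_coe, E.join_eq P, hn, pow_two, ← map_mul, ← map_pow]
    exact ⟨_, pow_mem hsq n, rfl⟩

theorem normal_left : ((E.H1 π).subgroupOf (E.H1 π ⊔ E.H2 π)).Normal ∧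
    ((E.H2 π).subgroupOf (E.H1 π ⊔ E.H2 π)).Normal := by
  have hc : ∀ a ∈ E.H1 π, ∀ b ∈ E.H2 π, Commute a b := by
    rw [E.H1_map P, E.H2_map P]
    rintro _ ⟨a, ha, rfl⟩ _ ⟨b, hb, rfl⟩
    exact Commute.map (f := π) (Subtype.ext (E.commute_closure ha hb).eq)
  have key : ∀ A B : Subgroup H, (∀ a ∈ A, ∀ b ∈ B, Commute a b) →
      B ≤ Subgroup.normalizer (A : Set H) := fun A B h b hb =>
    Subgroup.mem_normalizer_fintype fun a ha => by
      show b * a * b⁻¹ ∈ A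
      rw [(h a ha b hb).symm.eq, mul_inv_cancel_right]
      exact ha
  exact ⟨Subgroup.normal_subgroupOf_of_le_normalizer (sup_le Subgroup.le_normalizer (key _ _ hc)),
    Subgroup.normal_subgroupOf_of_le_normalizer
      (sup_le (key _ _ fun b hb a ha => (hc a ha b hb).symm) Subgroup.le_normalizer)⟩

theorem meet : E.H1 π ⊓ E.H2 π = Subgroup.zpowers (π ⟨z, E.gens.rot.z_mem⟩) := by
  have g := E.gens
  have F := g.rot.fr
  refine le_antisymm ?_ (Subgroup.zpowers_le.2 ?_)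
  · rw [E.H1_map P, E.H2_map P]
    rintro h ⟨⟨a, ha, rfl⟩, ⟨b, hb, e⟩⟩
    have fix : ∀ {i j u : G}, i ∈ Q → j ∈ Q → ac u 16 = 16 → Commute u z → ∀ {m : cen z y},
        (m : G) ∈ Subgroup.closure ({i, j, u} : Set G) → m ∈ fix16 E.gens := by
      intro i j u hi hj hu huz m hm
      let S : Subgroup G :=
        { carrier := {w | Commute w z ∧ ac w 16 = 16}
          one_mem' := ⟨Commute.one_left z, F.ac_Q (one_mem Q) (by norm_num)⟩
          mul_mem' := fun {v w} hv hw => ⟨hv.1.mul_left hw.1, by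
            rw [F.ac_mul hv.1 hw.1 (by norm_num), hw.2, hv.2]⟩
          inv_mem' := fun {v} hv => ⟨hv.1.inv_left, by
            conv_lhs => rw [← hv.2]
            exact F.ac_inv hv.1 (by norm_num)⟩ }
      have hle : Subgroup.closure ({i, j, u} : Set G) ≤ S := (Subgroup.closure_le _).2 (by
        rintro w (rfl | rfl | rfl)
        · exact ⟨F.es.comm _ hi, F.ac_Q hi (by norm_num)⟩
        · exact ⟨F.es.comm _ hj, F.ac_Q hj (by norm_num)⟩
        · exact ⟨huz, hu⟩)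
      exact (hle hm).2
    have fa : a ∈ fix16 E.gens :=
      fix E.p1.iQ E.p1.jQ ((g.a1 16 (by norm_num)).trans (by decide +kernel)) g.z1 ha
    have fb : b ∈ fix16 E.gens :=
      fix E.p2.iQ E.p2.jQ ((g.a2 16 (by norm_num)).trans (by decide +kernel)) g.z2 hb
    obtain rfl := P.eq_of_fix16 fb fa e
    have az := (mem_cen.1 b.2).1
    have c1 : Commute (b : G) i1 := (E.commute_closure (Subgroup.subset_closure (by simp)) hb).symm
    have c1' : Commute (b : G) j1 := (E.commute_closure (Subgroup.subset_closure (by simp)) hb).symm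
    have c2 : Commute (b : G) i2 := E.commute_closure ha (Subgroup.subset_closure (by simp))
    have c2' : Commute (b : G) j2 := E.commute_closure ha (Subgroup.subset_closure (by simp))
    have fx : ∀ {q : G}, q ∈ Q → Commute (b : G) q → ac (b : G) (co q) = co q := fun {q} hq hc => by
      rw [← F.conj _ az q hq, mul_inv_eq_iff_eq_mul.2 hc.eq]
    have k3 := fx E.p1.iQ c1
    have k13 := fx E.p1.jQ c1'
    have k12 := fx E.p2.iQ c2
    have k7 := fx E.p2.jQ c2'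
    rw [E.p1.coi] at k3
    rw [E.p1.coj] at k13
    rw [E.p2.coi] at k12
    rw [E.p2.coj] at k7
    obtain ⟨t, ht, hk⟩ := g.classify az (mem_cen.1 b.2).2
    obtain ⟨t0, t1, t2, t3, t4⟩ := t
    obtain ⟨rfl, rfl, rfl, rfl⟩ : t1 = 0 ∧ t2 = 0 ∧ t3 = 0 ∧ t4 = 0 := wd_fix _ ht fun k hk' => by
      have h64 : k < 64 := by simp at hk'; omega
      rw [← hk k h64]
      simp only [List.mem_cons, List.not_mem_nil, or_false] at hk'
      rcases hk' with rfl | rfl | rfl | rfl <;> assumption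
    have ht0 : t0 = 0 := by
      have e16 : ac (b : G) 16 = 16 := fb
      rw [hk 16 (by norm_num)] at e16
      exact (by decide +kernel : ∀ n < 3, wd (n, 0, 0, 0, 0) 16 = 16 → n = 0) t0 (mem_idx.1 ht).1 e16
    subst ht0
    have bQ : (b : G) ∈ Q := F.faithful _ az fun k hk' => by
      rw [hk k hk']; rfl
    have h0 : co (b : G) = 0 := by
      refine planes_perp _ (g.rot.co_lt16 bQ (mem_cen.1 b.2).2) ?_ ?_ ?_ ?_
      · rw [← E.p1.coi]; exact (F.commute_Q bQ E.p1.iQ).1 c1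
      · rw [← E.p1.coj]; exact (F.commute_Q bQ E.p1.jQ).1 c1'
      · rw [← E.p2.coi]; exact (F.commute_Q bQ E.p2.iQ).1 c2
      · rw [← E.p2.coj]; exact (F.commute_Q bQ E.p2.jQ).1 c2'
    rcases F.co_zero _ bQ h0 with e' | e'
    · rw [show b = 1 from Subtype.ext e', map_one]
      exact one_mem _
    · rw [show b = ⟨z, g.rot.z_mem⟩ from Subtype.ext e']
      exact Subgroup.mem_zpowers _
  · have e1 : (⟨z, g.rot.z_mem⟩ : cen z y) = ⟨i1, E.p1.mem_i E.gens.rot⟩ * ⟨i1, E.p1.mem_i E.gens.rot⟩ :=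
      Subtype.ext (E.p1.i_sq g.rot (by decide)).symm
    have e2 : (⟨z, g.rot.z_mem⟩ : cen z y) = ⟨i2, E.p2.mem_i E.gens.rot⟩ * ⟨i2, E.p2.mem_i E.gens.rot⟩ :=
      Subtype.ext (E.p2.i_sq g.rot (by decide)).symm
    refine Subgroup.mem_inf.2 ⟨?_, ?_⟩
    · rw [e1, map_mul]
      exact mul_mem (Subgroup.subset_closure (by simp)) (Subgroup.subset_closure (by simp))
    · rw [e2, map_mul]
      exact mul_mem (Subgroup.subset_closure (by simp)) (Subgroup.subset_closure (by simp))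

theorem core_join : (Q.subgroupOf (cen z y)).map π =
    (Cfsg.pCore 2 ↥(E.H1 π ⊔ E.H2 π)).map (E.H1 π ⊔ E.H2 π).subtype := by
  set Qb := (Q.subgroupOf (cen z y)).map π with hQb
  set J := E.H1 π ⊔ E.H2 π with hJ
  have := P.normal_Qsub
  have hle : Qb ≤ J := E.Qb_le P
  refine le_antisymm (fun h hh => ?_) ?_
  · have hp : IsPGroup 2 (Qb.subgroupOf J) := P.isPGroup_Qsub.of_equiv (Subgroup.subgroupOfEquivOfLe hle).symm
    exact ⟨⟨h, hle hh⟩, Cores.le_pCore hp hh, rfl⟩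
  · rintro _ ⟨⟨h, hh⟩, hc, rfl⟩
    obtain ⟨k, hk⟩ := (Cores.pCore_isPGroup (G := J) 2) ⟨_, hc⟩
    have hh' := hh
    rw [hJ, E.join_eq P] at hh'
    obtain ⟨m, hm, rfl⟩ := hh'
    exact P.two_mem hm (congrArg Subtype.val (congrArg Subtype.val hk))

end Elts

/-- The local hypotheses. -/
theorem exists_local {H : Type*} [Group H] [Finite H] (E : Elts z Q co ac y y1 y2 r s i1 j1 i2 j2)
    {π : cen z y →* H} (hs : Function.Surjective π)
    (hk : ∀ m, π m = 1 ↔ (m : G) ∈ Subgroup.zpowers y) :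
    ((Q.subgroupOf (cen z y)).map π).Normal ∧ Nat.card H = 2 ^ 7 * 3 ^ 2 ∧
    Cfsg.generalizedFittingSubgroup H = (Q.subgroupOf (cen z y)).map π ∧
    ∃ H₁ H₂ : Subgroup H, H₁ ⊔ H₂ = Subgroup.closure {h : H | Odd (orderOf h)} ∧
      (H₁.subgroupOf (H₁ ⊔ H₂)).Normal ∧ (H₂.subgroupOf (H₁ ⊔ H₂)).Normal ∧
      Nonempty (H₁ ≃* Matrix.SpecialLinearGroup (Fin 2) (ZMod 3)) ∧
      Nonempty (H₂ ≃* Matrix.SpecialLinearGroup (Fin 2) (ZMod 3)) ∧
      H₁ ⊓ H₂ = Subgroup.zpowers (π ⟨z, E.gens.rot.z_mem⟩) ∧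
      (Q.subgroupOf (cen z y)).map π = (Cfsg.pCore 2 ↥(H₁ ⊔ H₂)).map (H₁ ⊔ H₂).subtype := by
  have P : Proj E.gens π := ⟨hs, hk⟩
  have : Fact (Nat.Prime 2) := ⟨Nat.prime_two⟩
  refine ⟨P.normal_Qsub, P.card_eq, ?_, E.H1 π, E.H2 π, E.join_eq_odd P, (E.normal_left P).1,
    (E.normal_left P).2, ?_, ?_, E.meet P, E.core_join P⟩
  · rw [← P.pCore_eq]
    exact Balance.centralizer_pCore_le_iff.1 (by rw [P.pCore_eq]; exact P.centralizer_le)
  · exact E.sl_plane P E.p1 (by decide) (by decide) (by decide)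
      ((E.gens.a1 16 (by norm_num)).trans (by decide +kernel))
  · exact E.sl_plane P E.p2 (by decide) (by decide) (by decide)
      ((E.gens.a2 16 (by norm_num)).trans (by decide +kernel))

end Cfsg.Agent.Lib.SuzCent37
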