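import Cfsg.Agent.Lib.Unitary.Simple

/-!
# `PSU(4, 3)`: an element of order three commuting with a quaternion group is a commutator in its centraliser

Such an element lifts to a transvection.

Owner: helper37.
-/

set_option autoImplicit false

namespace Cfsg.Agent.Lib.SuzCent37

open Matrix Module
open Cfsg.Agent.Lib.Unitary

/-- The linear algebra: the nilpotent part has rank at most one. -/
theorem exists_rank_one {K : Type*} [Field K] {V : Type*} [AddCommGroup V] [Module K V]
    [FiniteDimensional K V] (hV : finrank K V = 4) (h2 : (2 : K) ≠ 0) {T P Q N : Module.End K V}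
    (hT : T * T = 1) (hT1 : T ≠ 1) (hT2 : T ≠ -1) (hPT : Commute P T) (hQT : Commute Q T)
    (hP : Function.Injective P) (hQ : Function.Injective Q) (hPQ : P * Q = T * (Q * P))
    (hN3 : N * N * N = 0) (hNP : Commute N P) (hNQ : Commute N Q) (hNT : Commute N T) :
    ∃ v : V, ∀ x, ∃ c : K, N x = c • v := by
  set Wp := LinearMap.ker (T - 1) with hWp
  set Wm := LinearMap.ker (T + 1) with hWm
  have mp : ∀ {x}, x ∈ Wp ↔ T x = x := fun {x} => by
    rw [hWp, LinearMap.mem_ker, LinearMap.sub_apply, sub_eq_zero]; rfl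
  have mm : ∀ {x}, x ∈ Wm ↔ T x = -x := fun {x} => by
    rw [hWm, LinearMap.mem_ker, LinearMap.add_apply, add_eq_zero_iff_eq_neg]; rfl
  have hTT : ∀ x, T (T x) = x := fun x => DFunLike.congr_fun hT x
  have hc : IsCompl Wp Wm := by
    refine IsCompl.of_eq (eq_bot_iff.2 fun x hx => ?_) (eq_top_iff.2 fun x _ => ?_)
    · obtain ⟨h1, h2'⟩ := Submodule.mem_inf.1 hx
      rw [mp] at h1
      rw [mm, h1, eq_neg_iff_add_eq_zero, ← two_smul K x] at h2'
      exact (Submodule.mem_bot K).2 ((smul_eq_zero.1 h2').resolve_left h2)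
    · refine Submodule.mem_sup.2 ⟨(2 : K)⁻¹ • (x + T x), ?_, (2 : K)⁻¹ • (x - T x), ?_, ?_⟩
      · rw [mp, map_smul, map_add, hTT, add_comm]
      · rw [mm, map_smul, map_sub, hTT, ← smul_neg, neg_sub]
      · rw [← smul_add, add_add_sub_cancel, ← two_smul K x, smul_smul, inv_mul_cancel₀ h2, one_smul]
  have hsum : finrank K Wp + finrank K Wm = 4 := by
    rw [Submodule.finrank_add_eq_of_isCompl hc, hV]
  have hpne : finrank K Wp ≠ 0 := fun e => hT2 <| LinearMap.ext fun x => by
    have : Wm = ⊤ := Submodule.eq_top_of_finrank_eq (by omega)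
    exact mm.1 (this ▸ Submodule.mem_top : x ∈ Wm)
  have hmne : finrank K Wm ≠ 0 := fun e => hT1 <| LinearMap.ext fun x => by
    have : Wp = ⊤ := Submodule.eq_top_of_finrank_eq (by omega)
    exact mp.1 (this ▸ Submodule.mem_top : x ∈ Wp)
  have invm : ∀ {R : Module.End K V}, Commute R T → ∀ x ∈ Wm, R x ∈ Wm := fun {R} hR x hx => by
    rw [mm, ← Module.End.mul_apply, ← hR.eq, Module.End.mul_apply, mm.1 hx, map_neg]
  have invp : ∀ {R : Module.End K V}, Commute R T → ∀ x ∈ Wp, R x ∈ Wp := fun {R} hR x hx => by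
    rw [mp, ← Module.End.mul_apply, ← hR.eq, Module.End.mul_apply, mp.1 hx]
  have anti : ∀ x ∈ Wm, P (Q x) = -(Q (P x)) := fun x hx => by
    have := DFunLike.congr_fun hPQ x
    simp only [Module.End.mul_apply] at this
    rw [this]
    exact mm.1 (invm hQT _ (invm hPT x hx))
  -- the dimension of the minus space is two
  have hm2 : finrank K Wm = 2 := by
    let p := P.restrict (invm hPT)
    let q := Q.restrict (invm hQT)
    have e : p * q = (-1 : K) • (q * p) := LinearMap.ext fun x => Subtype.ext (by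
      show P (Q x) = (-1 : K) • Q (P x)
      rw [anti x x.2, neg_one_smul])
    have hp : LinearMap.det p ≠ 0 := by
      refine (LinearEquiv.isUnit_det' (LinearEquiv.ofInjectiveEndo p fun a b h => ?_)).ne_zero
      exact Subtype.ext (hP (congrArg Subtype.val h))
    have hq : LinearMap.det q ≠ 0 := by
      refine (LinearEquiv.isUnit_det' (LinearEquiv.ofInjectiveEndo q fun a b h => ?_)).ne_zero
      exact Subtype.ext (hQ (congrArg Subtype.val h))
    have ed := congrArg LinearMap.det e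
    rw [LinearMap.det_smul, map_mul, map_mul, mul_comm (LinearMap.det q)] at ed
    have h1 : (-1 : K) ^ finrank K Wm = 1 := (mul_eq_right₀ (mul_ne_zero hp hq)).1 ed.symm
    rcases Nat.even_or_odd (finrank K Wm) with h | h
    · obtain ⟨r, hr⟩ := h; omega
    · rw [h.neg_one_pow] at h1
      exact absurd (by linear_combination -h1 : (2 : K) = 0) h2
  -- the nilpotent part vanishes on it
  have hNm : ∀ x ∈ Wm, N x = 0 := by
    set W0 := Wm ⊓ LinearMap.ker N with hW0
    suffices h : W0 = Wm by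
      intro x hx
      exact LinearMap.mem_ker.1 (Submodule.mem_inf.1 (h.symm ▸ hx : x ∈ W0)).2
    have inv0 : ∀ {R : Module.End K V}, Commute R T → Commute N R → ∀ x ∈ W0, R x ∈ W0 :=
      fun {R} hR hNR x hx => Submodule.mem_inf.2 ⟨invm hR x (Submodule.mem_inf.1 hx).1, by
        rw [LinearMap.mem_ker, ← Module.End.mul_apply, hNR.eq, Module.End.mul_apply,
          LinearMap.mem_ker.1 (Submodule.mem_inf.1 hx).2, map_zero]⟩
    have hle : W0 ≤ Wm := inf_le_left
    have h0 : finrank K W0 ≠ 0 := fun e => by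
      rw [Submodule.finrank_eq_zero] at e
      obtain ⟨x, hx, hx0⟩ := Submodule.exists_mem_ne_zero_of_ne_bot
        (fun e' : Wm = ⊥ => hmne (by rw [e']; exact finrank_bot K V))
      have hker : ∀ y ∈ Wm, N y = 0 → y = 0 := fun y hy hy' => by
        have : y ∈ W0 := Submodule.mem_inf.2 ⟨hy, hy'⟩
        rwa [e, Submodule.mem_bot] at this
      have h3 : N (N (N x)) = 0 := DFunLike.congr_fun hN3 x
      have k1 := invm hNT x hx
      exact hx0 (hker x hx (hker _ k1 (hker _ (invm hNT _ k1) h3)))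
    by_contra hne
    have hlt := Submodule.finrank_lt_finrank_of_lt (lt_of_le_of_ne hle hne)
    obtain ⟨w, hw0, hw⟩ := finrank_eq_one_iff'.1 (show finrank K W0 = 1 by omega)
    obtain ⟨a, ha⟩ := hw ⟨P w, inv0 hPT hNP w w.2⟩
    obtain ⟨b, hb⟩ := hw ⟨Q w, inv0 hQT hNQ w w.2⟩
    have ha' : P (w : V) = a • (w : V) := (congrArg Subtype.val ha).symm
    have hb' : Q (w : V) = b • (w : V) := (congrArg Subtype.val hb).symm
    have hw0' : (w : V) ≠ 0 := fun e => hw0 (Subtype.ext e)
    have han := anti w (hle w.2)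
    rw [hb', ha', map_smul, map_smul, ha', hb', smul_smul, smul_smul, eq_neg_iff_add_eq_zero,
      ← add_smul, mul_comm b a, ← two_mul] at han
    rcases smul_eq_zero.1 han with e | e
    · rcases mul_eq_zero.1 ((mul_eq_zero.1 e).resolve_left h2) with e | e
      · rw [e, zero_smul, ← map_zero P] at ha'; exact hw0' (hP ha')
      · rw [e, zero_smul, ← map_zero Q] at hb'; exact hw0' (hQ hb')
    · exact hw0' e
  -- rank at most one on the plus space
  set R := Submodule.map N Wp with hR
  have hRp : R ≤ Wp := Submodule.map_le_iff_le_comap.2 fun x hx => invp hNT x hx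
  have hR1 : finrank K R ≤ 1 := by
    by_contra hgt
    have hle := Submodule.finrank_mono hRp
    have hRW : R = Wp := Submodule.eq_of_le_of_finrank_eq hRp (by omega)
    have h3 : Submodule.map (N * N * N) Wp = Wp := by
      rw [Module.End.mul_eq_comp, Module.End.mul_eq_comp, Submodule.map_comp, Submodule.map_comp,
        ← hR, hRW, ← hR, hRW, ← hR, hRW]
    rw [hN3] at h3
    refine hpne ?_
    rw [← h3]
    simp
  obtain ⟨v, hv⟩ := (Submodule.finrank_le_one_iff_isPrincipal R).1 hR1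
  refine ⟨v, fun x => ?_⟩
  obtain ⟨y, hy, w, hw, rfl⟩ := Submodule.mem_sup.1 (hc.sup_eq_top.ge (Submodule.mem_top (x := x)))
  rw [map_add, hNm w hw, add_zero]
  obtain ⟨c, hc⟩ := Submodule.mem_span_singleton.1
    (hv ▸ Submodule.mem_map_of_mem hy : N y ∈ Submodule.span K {v})
  exact ⟨c, hc.symm⟩

variable {K : Type} [Field K] [Fintype K]

/-- The action on vectors. -/
def act : SU 4 K 3 →* Module.End K (Fin 4 → K) where
  toFun X := Matrix.mulVecLin X.1.1
  map_one' := LinearMap.ext fun v => by simp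
  map_mul' X Y := LinearMap.ext fun v => SU_mul_mulVec X Y v

theorem act_apply (X : SU 4 K 3) (v : Fin 4 → K) : act X v = X.1.1 *ᵥ v := rfl

theorem act_injective (X : SU 4 K 3) : Function.Injective (act X) := fun v w h => by
  rw [← SU_inv_mulVec X v, ← SU_inv_mulVec X w]
  exact congrArg _ h

/-- A transvection is a commutator of elements commuting with it. -/
theorem tv_commutator_centralizer (hF : Fintype.card K = 3 ^ 2) {v : Fin 4 → K} {c : K}
    {A : GU 4 K 3} (hA : IsTvAt v c A) (hv : hermForm 4 K 3 v v = 0) (hv' : v ≠ 0)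
    (hc : c + c ^ 3 = 0) : ∃ g h : GU 4 K 3, g.1.1.det = 1 ∧ h.1.1.det = 1 ∧ Commute g A ∧
      Commute h A ∧ g * h * g⁻¹ * h⁻¹ = A := by
  obtain ⟨f, hf⟩ := exists_hyp hF hv' hv
  obtain ⟨g, hg, ho, -⟩ := hf.exists_complement hF
  set z := g ⟨0, by omega⟩
  have hzz : hermForm 4 K 3 z z = 1 := by
    have h := hg ⟨0, by omega⟩ ⟨0, by omega⟩
    rwa [if_pos rfl] at h
  have hze : hermForm 4 K 3 z v = 0 := (ho _).1
  obtain ⟨θ, hθ0, hθ⟩ := exists_trace_zero_ne_zero hF
  obtain ⟨a, ha⟩ := trace_surj hF (y := c / θ) (by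
    rw [div_pow, show c ^ 3 = -c by linear_combination hc,
      show θ ^ 3 = -θ by linear_combination hθ, neg_div_neg_eq])
  set x := -(θ * a)
  have hx : x ^ 3 - x = c := by
    simp only [x, neg_pow_q hF, mul_pow, show θ ^ 3 = -θ by linear_combination hθ]
    linear_combination (mul_div_cancel₀ c hθ0) + θ * ha
  obtain ⟨d, hd⟩ := exists_eich_param hF z
  obtain ⟨d', hd'⟩ := exists_eich_param hF (x • z)
  have hze' : hermForm 4 K 3 (x • z) v = 0 := by rw [herm_smul_left, hze, mul_zero]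
  obtain ⟨G, hG, hGdet⟩ := exists_eich hF hv hze hd
  obtain ⟨H, hH, hHdet⟩ := exists_eich hF hv hze' hd'
  have hzx : hermForm 4 K 3 z (x • z) = x ^ 3 := by rw [herm_smul_right, hzz, mul_one]
  have hxz : hermForm 4 K 3 (x • z) z = x := by rw [herm_smul_left, hzz, mul_one]
  have h1 := hG.mul hF hH hv hze hze'
  have h2 := hH.mul hF hG hv hze' hze
  have hsum : hermForm 4 K 3 (x • z + z) v = 0 := by rw [herm_add_left, hze, hze', add_zero]
  have h3 := (hA.eich hF).mul hF h2 hv (herm_zero_left v) hsum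
  rw [zero_add, herm_zero_right _ hF, sub_zero, hzx, add_comm (x • z) z] at h3
  rw [hxz] at h1
  rw [show c + (d' + d - x ^ 3) = d + d' - x by rw [← hx]; ring] at h3
  have comm : ∀ {y : Fin 4 → K} {e : K} {B : GU 4 K 3}, IsEich v y e B →
      hermForm 4 K 3 y v = 0 → Commute B A := fun {y e B} hB hy => by
    have k1 := hB.mul hF (hA.eich hF) hv hy (herm_zero_left v)
    have k2 := (hA.eich hF).mul hF hB hv (herm_zero_left v) hy
    rw [add_zero, herm_zero_left, sub_zero] at k1
    rw [zero_add, herm_zero_right _ hF, sub_zero, add_comm c e] at k2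
    exact k1.unique k2
  refine ⟨G, H, hGdet, hHdet, comm hG hze, comm hH hze', ?_⟩
  rw [h1.unique h3]
  group

theorem three_eq_zero (hF : Fintype.card K = 3 ^ 2) : (3 : K) = 0 := by
  have := Nat.cast_card_eq_zero K
  rw [hF] at this
  push_cast at this
  have h : (3 : K) ^ 2 = 0 := by linear_combination this
  exact (pow_eq_zero_iff (by norm_num)).1 h

/-- An element of order three commuting with a quaternion group is a commutator in its centraliser. -/
theorem exists_comm_of_quat (hK : Fintype.card K = 9) {a p q : PSU 4 K 3} (ha : a ≠ 1)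
    (ha3 : a ^ 3 = 1) (hp : Commute p a) (hq : Commute q a) (hpq : p * q * p⁻¹ = q⁻¹)
    (hsq : p * p = q * q) (hne : p * p ≠ 1) :
    ∃ u v : PSU 4 K 3, Commute u a ∧ Commute v a ∧ u * v * u⁻¹ * v⁻¹ = a := by
  have hF : Fintype.card K = 3 ^ 2 := by rw [hK]; norm_num
  have h3 := three_eq_zero hF
  have h2 : (2 : K) ≠ 0 := fun e => one_ne_zero (α := K) (by linear_combination h3 - e)
  set Z := Subgroup.center (SU 4 K 3) with hZ
  have hZ4 : ∀ e ∈ Z, e ^ 4 = 1 := fun e he => by
    have h := pow_card_eq_one' (G := Z) (x := ⟨e, he⟩)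
    rw [card_center_SU hF (by norm_num)] at h
    simpa using congrArg Subtype.val h
  have hZc : ∀ e ∈ Z, ∀ g : SU 4 K 3, Commute e g := fun e he g =>
    (Subgroup.mem_center_iff.1 he g).symm
  have hdiv : ∀ {X Y : SU 4 K 3}, (X : PSU 4 K 3) = Y → ∃ e ∈ Z, X = e * Y := fun {X Y} h =>
    ⟨X * Y⁻¹, by rw [← QuotientGroup.eq_one_iff, QuotientGroup.mk_mul, QuotientGroup.mk_inv, h,
      mul_inv_cancel], by group⟩
  obtain ⟨A₀, rfl⟩ := QuotientGroup.mk_surjective a
  obtain ⟨P, rfl⟩ := QuotientGroup.mk_surjective p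
  obtain ⟨Q, rfl⟩ := QuotientGroup.mk_surjective q
  have hA₀ : A₀ ^ 3 ∈ Z := (QuotientGroup.eq_one_iff _).1 (by rw [QuotientGroup.mk_pow, ha3])
  set A := A₀ ^ 4 with hAdef
  have hAa : (A : PSU 4 K 3) = A₀ := by
    rw [hAdef, QuotientGroup.mk_pow, pow_succ, ha3, one_mul]
  have hA3 : A ^ 3 = 1 := by rw [hAdef, ← pow_mul, mul_comm, pow_mul]; exact hZ4 _ hA₀
  have hcomm : ∀ X : SU 4 K 3, Commute (X : PSU 4 K 3) A₀ → Commute X A := fun X hX => by
    obtain ⟨e, he, h⟩ := hdiv (X := X * A * X⁻¹) (Y := A) (by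
      rw [QuotientGroup.mk_mul, QuotientGroup.mk_mul, QuotientGroup.mk_inv, hAa, hX.eq]
      group)
    have h' := congrArg (· ^ 3) h
    simp only [conj_pow, hA3, mul_one, mul_inv_cancel, (hZc e he A).mul_pow] at h'
    have e4 := hZ4 e he
    rw [pow_succ, ← h', one_mul] at e4
    rw [e4, one_mul] at h
    exact mul_inv_eq_iff_eq_mul.1 h
  obtain ⟨e1, he1, hr⟩ := hdiv (X := P * Q * P⁻¹) (Y := Q⁻¹) (by
    rw [QuotientGroup.mk_mul, QuotientGroup.mk_mul, QuotientGroup.mk_inv, hpq]; rfl)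
  obtain ⟨e2, he2, hs⟩ := hdiv (X := P * P) (Y := Q * Q) (by
    rw [QuotientGroup.mk_mul, hsq]; rfl)
  have c1 : ∀ g, Commute e1 g := hZc e1 he1
  have hPQ2 : P * (Q * Q) * P⁻¹ = Q * Q := by
    have : Q * Q = e2⁻¹ * (P * P) := by rw [hs, inv_mul_cancel_left]
    rw [this, ← mul_assoc P e2⁻¹, ← (hZc _ (inv_mem he2) P).eq]
    group
  have hQ4 : e1 * e1 * (Q⁻¹ * Q⁻¹) = Q * Q := by
    rw [← hPQ2, show P * (Q * Q) * P⁻¹ = P * Q * P⁻¹ * (P * Q * P⁻¹) by group, hr,
      mul_assoc e1 Q⁻¹, ← mul_assoc Q⁻¹ e1, ← (c1 Q⁻¹).eq]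
    group
  set T := e1 * (Q⁻¹ * Q⁻¹) with hT
  have hT2 : T * T = 1 := by
    calc T * T = e1 * ((Q⁻¹ * Q⁻¹) * e1) * (Q⁻¹ * Q⁻¹) := by rw [hT]; group
      _ = e1 * e1 * (Q⁻¹ * Q⁻¹) * (Q⁻¹ * Q⁻¹) := by rw [← (c1 _).eq]; group
      _ = 1 := by rw [hQ4]; group
  have hPQT : P * Q = T * (Q * P) := by
    calc P * Q = e1 * Q⁻¹ * P := by rw [← hr]; group
      _ = T * (Q * P) := by rw [hT]; group
  have hTQ : Commute Q T :=
    (c1 Q).symm.mul_right ((Commute.refl Q).inv_right.mul_right (Commute.refl Q).inv_right)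
  have hTP : Commute P T := by
    refine (c1 P).symm.mul_right ?_
    have h1 : Commute P (Q * Q) := mul_inv_eq_iff_eq_mul.1 hPQ2
    simpa [_root_.mul_inv_rev] using h1.inv_right
  have hTA : Commute A T :=
    (c1 A).symm.mul_right ((hcomm Q hq).symm.inv_right.mul_right (hcomm Q hq).symm.inv_right)
  have hTZ : T ∉ Z := fun h => hne (by
    have h' : (T : PSU 4 K 3) = 1 := (QuotientGroup.eq_one_iff T).2 h
    rw [hT, QuotientGroup.mk_mul, (QuotientGroup.eq_one_iff e1).2 he1, one_mul,
      QuotientGroup.mk_mul, QuotientGroup.mk_inv, ← _root_.mul_inv_rev, inv_eq_one] at h'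
    rw [hsq, h'])
  have hne' : ∀ l : K, act T ≠ l • 1 := fun l e => hTZ
    ((mem_center_SU_iff hF (by norm_num) T).2 ⟨l, fun x => DFunLike.congr_fun e x⟩)
  have cm : ∀ {X Y : SU 4 K 3}, Commute X Y → Commute (act X) (act Y) := fun h => h.map act
  set N : Module.End K (Fin 4 → K) := act A - 1 with hN
  have hN3 : N * N * N = 0 := by
    have hA : act A * act A * act A = 1 := by
      rw [← map_mul, ← map_mul, show A * A * A = A ^ 3 by rw [pow_succ, pow_two], hA3, map_one]
    have hz : ∀ (y : Fin 4 → K), (3 : K) • y = 0 := fun y => by rw [h3, zero_smul]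
    refine LinearMap.ext fun y => ?_
    have hA' := DFunLike.congr_fun hA y
    simp only [Module.End.mul_apply, Module.End.one_apply] at hA'
    simp only [hN, Module.End.mul_apply, LinearMap.sub_apply, Module.End.one_apply, map_sub,
      LinearMap.zero_apply, hA']
    rw [← hz (act A y - act A (act A y))]
    module
  have cN : ∀ {X : SU 4 K 3}, Commute A X → Commute N (act X) := fun h =>
    (cm h).sub_left (Commute.one_left _)
  obtain ⟨v, hv⟩ := exists_rank_one (Module.finrank_fin_fun K) h2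
    (T := act T) (P := act P) (Q := act Q) (N := N)
    (by rw [← map_mul, hT2, map_one])
    (fun e => hne' 1 (by rw [e, one_smul]))
    (fun e => hne' (-1) (by rw [e]; exact (neg_one_smul K (1 : Module.End K (Fin 4 → K))).symm))
    (cm hTP) (cm hTQ) (act_injective P) (act_injective Q)
    (by rw [← map_mul, ← map_mul, ← map_mul, hPQT]) hN3
    (cN (hcomm P hp).symm) (cN (hcomm Q hq).symm) (cN hTA)
  choose φ hφ using hv
  have hN0 : N ≠ 0 := fun e => ha (by
    rw [← hAa]
    refine (QuotientGroup.eq_one_iff A).2 ((mem_center_SU_iff hF (by norm_num) A).2 ⟨1, fun x => ?_⟩)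
    have := DFunLike.congr_fun (sub_eq_zero.1 e : act A = 1) x
    rw [one_smul]; exact this)
  obtain ⟨x0, hx0⟩ : ∃ x, N x ≠ 0 := by
    by_contra hcon
    push Not at hcon
    exact hN0 (LinearMap.ext hcon)
  have hv0 : v ≠ 0 := fun e => hx0 (by rw [hφ, e, smul_zero])
  have hAx : ∀ x, A.1.1 *ᵥ x = x + φ x • v := fun x => by
    rw [← hφ x, hN, LinearMap.sub_apply, Module.End.one_apply, act_apply]; abel
  have hφv : φ v = 0 := by
    have h := DFunLike.congr_fun hN3 v
    simp only [Module.End.mul_apply, LinearMap.zero_apply] at h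
    rw [hφ v, map_smul, hφ v, map_smul, map_smul, hφ v, smul_smul, smul_smul, smul_eq_zero] at h
    simpa [hv0] using h
  have hpres : ∀ x y, hermForm 4 K 3 (A.1.1 *ᵥ x) (A.1.1 *ᵥ y) = hermForm 4 K 3 x y :=
    mem_SU_iff.1 A.2
  have hvv : hermForm 4 K 3 v v = 0 := by
    have h := hpres x0 v
    rw [hAx, hAx, hφv, zero_smul, add_zero, herm_add_left, herm_smul_left, add_eq_left] at h
    refine (mul_eq_zero.1 h).resolve_left fun e => hx0 ?_
    rw [hφ, e, zero_smul]
  obtain ⟨f, hf⟩ := exists_hyp hF hv0 hvv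
  have key : ∀ x y, φ x * hermForm 4 K 3 v y + φ y ^ 3 * hermForm 4 K 3 x v = 0 := fun x y => by
    have h := hpres x y
    rw [hAx, hAx, herm_add_left, herm_smul_left, herm_add_right _ _ _ hF, herm_add_right _ _ _ hF,
      herm_smul_right, herm_smul_right, hvv, mul_zero, add_zero] at h
    linear_combination h
  have hc : φ f + φ f ^ 3 = 0 := by
    have h := key f f
    rwa [hf.2.2, hf.symm' hF, mul_one, mul_one] at h
  have htv : IsTvAt v (φ f) (suToGU 4 K 3 A) := fun x => by
    have h := key x f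
    rw [hf.2.2, mul_one] at h
    rw [suToGU_val, hAx,
      show φ f * hermForm 4 K 3 x v = φ x by linear_combination hermForm 4 K 3 x v * hc - h]
  obtain ⟨g, h, hg, hh, hgc, hhc, hgh⟩ := tv_commutator_centralizer hF htv hvv hv0 hc
  obtain ⟨U, hU⟩ := exists_SU_of_GU hg
  obtain ⟨W, hW⟩ := exists_SU_of_GU hh
  have hU' : suToGU 4 K 3 U = g := GU_ext fun x => by rw [suToGU_val, hU]
  have hW' : suToGU 4 K 3 W = h := GU_ext fun x => by rw [suToGU_val, hW]
  refine ⟨U, W, ?_, ?_, ?_⟩
  · rw [← hAa]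
    exact Commute.map (f := QuotientGroup.mk' Z) (suToGU_injective (by
      rw [map_mul, map_mul, hU', hgc.eq]))
  · rw [← hAa]
    exact Commute.map (f := QuotientGroup.mk' Z) (suToGU_injective (by
      rw [map_mul, map_mul, hW', hhc.eq]))
  · have : U * W * U⁻¹ * W⁻¹ = A := suToGU_injective (by
      rw [map_mul, map_mul, map_mul, map_inv, map_inv, hU', hW', hgh])
    rw [← hAa, ← this]
    rfl

end Cfsg.Agent.Lib.SuzCent37
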