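import Cfsg.Prelude.Def_Classical
import Cfsg.Prelude.Def_Local
import Cfsg.Prelude.Def_CaseTheorems
import Cfsg.Agent.Lib.SuzCent37.Image
import Cfsg.Agent.Lib.SuzCent37.Fusion
import Cfsg.Agent.Lib.SuzCent37.Trans
import Cfsg.Agent.Lib.SuzType52.Setup

/-!
# Suzuki type: the centraliser of a subgroup of order three with quaternion commutator is `3·U₄(3)`

`U43Type` is the recognition of `U₄(3)` by the centraliser of an involution (the statement of row 5390).

Owner: helper37.
-/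

set_option autoImplicit false

namespace Cfsg.Agent.Lib.SuzCent37

open Cfsg.Agent.Lib.SuzType52 Cfsg.Agent.Lib.PGroups
open scoped commutatorElement

universe u

/-- The recognition of `U₄(3)` by the centraliser of an involution. -/
def U43Type : Prop :=
  ∀ {G : Type u} [Group G] [Finite G] (z : G) (hz : orderOf z = 2) (H₁ H₂ : Subgroup (Subgroup.centralizer ({z} : Set G))) (hK : H₁ ⊔ H₂ = Subgroup.closure {x : Subgroup.centralizer ({z} : Set G) | Odd (orderOf x)}) (hn₁ : (H₁.subgroupOf (H₁ ⊔ H₂)).Normal) (hn₂ : (H₂.subgroupOf (H₁ ⊔ H₂)).Normal) (e₁ : H₁ ≃* Matrix.SpecialLinearGroup (Fin 2) (ZMod 3)) (e₂ : H₂ ≃* Matrix.SpecialLinearGroup (Fin 2) (ZMod 3)) (hmeet : (H₁ ⊓ H₂).map (Subgroup.subtype (Subgroup.centralizer ({z} : Set G))) = Subgroup.zpowers z) (Q : Subgroup (Subgroup.centralizer ({z} : Set G))) [Q.Normal] (hQ : Q = (Cfsg.pCore 2 ↥(H₁ ⊔ H₂)).map (Subgroup.subtype (H₁ ⊔ H₂))) (hF : Cfsg.generalizedFittingSubgroup (Subgroup.centralizer ({z} : Set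 G)) = Q) (hnwc : ∃ g : G, (∃ hq : g * z * g⁻¹ ∈ Subgroup.centralizer ({z} : Set G), (⟨g * z * g⁻¹, hq⟩ : Subgroup.centralizer ({z} : Set G)) ∈ Q) ∧ g * z * g⁻¹ ≠ z) (hH : Nat.card ↥(Subgroup.centralizer ({z} : Set G)) = 2 ^ 7 * 3 ^ 2) (hQQg : ∀ g : G, g * z * g⁻¹ ∈ Q.map (Subgroup.subtype (Subgroup.centralizer ({z} : Set G))) → g * z * g⁻¹ ≠ z → Nat.card ↥((Q.map (Subgroup.subtype (Subgroup.centralizer ({z} : Set G)))) ⊓ (Q.map (Subgroup.subtype (Subgroup.centralizer ({z} : Set G)))).map (MulAut.conj g).toMonoidHom) = 4) (K : Type) [Field K] [Fintype K] (hK9 : Fintype.card K = 9),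
    Nonempty (G ≃* Cfsg.PSU 4 K 3)

variable {G : Type u} [Group G] [Finite G] {z : G} {Q : Subgroup G} {co : G → ℕ} {ac : G → ℕ → ℕ}
  {x n y y1 y2 r s i1 j1 i2 j2 : G}

section

variable (E : Elts z Q co ac y y1 y2 r s i1 j1 i2 j2) (N : Subgroup ↥(Subgroup.centralizer ({y} : Set G)))
  [N.Normal] (hN : ∀ w, w ∈ N ↔ ((w : G) ∈ Subgroup.zpowers y))

theorem cen_le : cen z y ≤ Subgroup.centralizer ({y} : Set G) := inf_le_right

/-- The map to the quotient. -/
def toQuot : cen z y →* ↥(Subgroup.centralizer ({y} : Set G)) ⧸ N :=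
  (QuotientGroup.mk' N).comp (Subgroup.inclusion cen_le)

include E hN

omit [Finite G] in
theorem mk_eq {a b : ↥(Subgroup.centralizer ({y} : Set G))} (e : (a : ↥(Subgroup.centralizer ({y} : Set G)) ⧸ N) = b)
    (ha : (a : G) ^ 4 = 1) (hb : (b : G) ^ 4 = 1) : a = b := by
  have h := (hN _).1 (QuotientGroup.eq.1 e)
  set t : G := ((a⁻¹ * b : ↥(Subgroup.centralizer ({y} : Set G))) : G) with ht
  have t3 : t ^ 3 = 1 := by
    obtain ⟨k, hk⟩ := h
    rw [← hk, ← zpow_natCast, ← zpow_mul, mul_comm, zpow_mul, zpow_natCast, E.gens.rot.y3, one_zpow]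
  have hat : Commute (a : G) t := by
    obtain ⟨k, hk⟩ := h
    rw [← hk]
    exact (Commute.zpow_right (Subgroup.mem_centralizer_singleton_iff.1 a.2) k)
  have hbt : (b : G) = a * t := by
    rw [ht, Subgroup.coe_mul, Subgroup.coe_inv, mul_inv_cancel_left]
  have t4 : t ^ 4 = 1 := by
    rw [hbt, hat.mul_pow, ha, one_mul] at hb
    exact hb
  have t1 : t = 1 := by rwa [pow_succ, t3, one_mul] at t4
  exact Subtype.ext (by rw [hbt, t1, mul_one])

theorem quot_type (hfus : ∃ c, Commute c y ∧ c * z * c⁻¹ = x) (d : Duo z Q co ac x n) (hU : U43Type.{u})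
    (K : Type) [Field K] [Fintype K] (hK : Fintype.card K = 9) :
    Nonempty (↥(Subgroup.centralizer ({y} : Set G)) ⧸ N ≃* Cfsg.PSU 4 K 3) := by
  have g := E.gens
  have F := g.rot.fr
  set f := toQuot (z := z) N with hf
  set zc : cen z y := ⟨z, g.rot.z_mem⟩ with hzc
  set zb := f zc with hzb
  have fix4 : ∀ {m : cen z y}, (m : G) ∈ Q → (m : G) ^ 4 = 1 := fun hm => g.rot.pow_four hm
  have finj : ∀ {m m' : cen z y}, (m : G) ∈ Q → (m' : G) ∈ Q → f m = f m' → m = m' :=
    fun {m m'} hm hm' e => Subgroup.inclusion_injective cen_le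
      (mk_eq E N hN (a := Subgroup.inclusion cen_le m) (b := Subgroup.inclusion cen_le m') e
        (fix4 hm) (fix4 hm'))
  have hz1 : zb ≠ 1 := fun e => F.es.ne (congrArg Subtype.val
    (finj (m := zc) (m' := 1) F.es.mem (one_mem Q) (e.trans (map_one f).symm)))
  have hz2 : orderOf zb = 2 := by
    have : Fact (Nat.Prime 2) := ⟨Nat.prime_two⟩
    refine orderOf_eq_prime ?_ hz1
    rw [hzb, ← map_pow, show zc ^ 2 = 1 from Subtype.ext (by rw [Subgroup.coe_pow, pow_two]; exact F.es.sq),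
      map_one]
  have hfz : ∀ m, f m ∈ Subgroup.centralizer ({zb} : Set _) := fun m =>
    Subgroup.mem_centralizer_singleton_iff.2 ((Commute.map (f := f)
      (show Commute m zc from Subtype.ext (mem_cen.1 m.2).1.eq))).eq
  let π : cen z y →* ↥(Subgroup.centralizer ({zb} : Set (↥(Subgroup.centralizer ({y} : Set G)) ⧸ N))) :=
    f.codRestrict _ hfz
  have hker : ∀ m, π m = 1 ↔ (m : G) ∈ Subgroup.zpowers y := fun m => by
    rw [← Subtype.coe_inj]
    show ((Subgroup.inclusion cen_le m : ↥(Subgroup.centralizer ({y} : Set G))) :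
      ↥(Subgroup.centralizer ({y} : Set G)) ⧸ N) = 1 ↔ _
    rw [QuotientGroup.eq_one_iff, hN]
    rfl
  have hsurj : Function.Surjective π := by
    rintro ⟨h, hh⟩
    obtain ⟨w, rfl⟩ := QuotientGroup.mk_surjective h
    have hwy : Commute (w : G) y := Subgroup.mem_centralizer_singleton_iff.1 w.2
    set zw : ↥(Subgroup.centralizer ({y} : Set G)) := Subgroup.inclusion cen_le zc with hzw
    have hc : ((w * zw * w⁻¹ : ↥(Subgroup.centralizer ({y} : Set G))) :
        ↥(Subgroup.centralizer ({y} : Set G)) ⧸ N) = zw := by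
      rw [QuotientGroup.mk_mul, QuotientGroup.mk_mul, QuotientGroup.mk_inv]
      exact mul_inv_eq_iff_eq_mul.2 (Subgroup.mem_centralizer_singleton_iff.1 hh)
    have z4 : (z : G) ^ 4 = 1 := g.rot.pow_four F.es.mem
    have e := congrArg Subtype.val (mk_eq E N hN hc (by
      simp only [Subgroup.coe_mul, Subgroup.coe_inv, conj_pow]
      rw [show ((zw : ↥(Subgroup.centralizer ({y} : Set G))) : G) = z from rfl, z4]
      simp) (show (z : G) ^ 4 = 1 from z4))
    have hwz : Commute (w : G) z := mul_inv_eq_iff_eq_mul.1 e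
    exact ⟨⟨w, mem_cen.2 ⟨hwz, hwy⟩⟩, rfl⟩
  obtain ⟨hQn, hH, hFit, H₁, H₂, hodd, hn₁, hn₂, ⟨e₁⟩, ⟨e₂⟩, hmeet, hQ⟩ := exists_local E hsurj hker
  set Qs := Q.subgroupOf (cen z y) with hQs
  have hQm : (Qs.map π).map (Subgroup.subtype _) = Qs.map f := by
    rw [Subgroup.map_map]
    rfl
  obtain ⟨c, hcy, hcz⟩ := hfus
  have hxc : x ∈ cen z y := g.rot.mem_cen_Q d.xQ (by rw [d.cox]; norm_num)
  set cw : ↥(Subgroup.centralizer ({y} : Set G)) := ⟨c, Subgroup.mem_centralizer_singleton_iff.2 hcy⟩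
  set cb : ↥(Subgroup.centralizer ({y} : Set G)) ⧸ N := QuotientGroup.mk cw
  have hcb : cb * zb * cb⁻¹ = f ⟨x, hxc⟩ := by
    show ((cw * Subgroup.inclusion cen_le zc * cw⁻¹ : ↥(Subgroup.centralizer ({y} : Set G))) :
      ↥(Subgroup.centralizer ({y} : Set G)) ⧸ N) = _
    exact congrArg _ (Subtype.ext hcz)
  refine hU zb hz2 H₁ H₂ hodd hn₁ hn₂ e₁ e₂ ?_ (Qs.map π) hQ hFit ?_ hH ?_ K hK
  · rw [hmeet, MonoidHom.map_zpowers]
    rfl
  · refine ⟨cb, ⟨hcb ▸ hfz _, ⟨⟨x, hxc⟩, d.xQ, Subtype.ext hcb.symm⟩⟩, fun e => ?_⟩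
    rw [hcb] at e
    exact d.x_ne.2 (congrArg Subtype.val (finj (m := ⟨x, hxc⟩) (m' := zc) d.xQ F.es.mem e))
  · intro gb hgQ hgne
    rw [hQm] at hgQ ⊢
    obtain ⟨w, rfl⟩ := QuotientGroup.mk_surjective gb
    obtain ⟨q, hq, hqe⟩ := hgQ
    have hwy : Commute (w : G) y := Subgroup.mem_centralizer_singleton_iff.1 w.2
    have hqQ : (q : G) ∈ Q := hq
    set u := (w : G) * z * (w : G)⁻¹ with hu
    have e : (q : G) = u := congrArg Subtype.val (mk_eq E N hN (a := Subgroup.inclusion cen_le q)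
      (b := w * Subgroup.inclusion cen_le zc * w⁻¹) hqe (fix4 hqQ) (by
        show ((w : G) * z * (w : G)⁻¹) ^ 4 = 1
        rw [conj_pow, g.rot.pow_four F.es.mem]
        simp))
    have huQ : u ∈ Q := e ▸ hqQ
    have hune : u ≠ z := fun e' => hgne (by
      rw [← hqe]
      exact congrArg f (Subtype.ext (e.trans e') : q = zc))
    have hpw : ∀ {a : G}, a ∈ Q → a ∈ cen z y → ∀ b, pw a b ∈ Q ∧ pw a b ∈ cen z y := fun {a} h h' b => by
      cases b
      · exact ⟨one_mem _, one_mem _⟩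
      · exact ⟨h, h'⟩
    have huc : u ∈ cen z y := e ▸ q.2
    let φ : Bool × Bool → cen z y := fun t =>
      ⟨pw u t.1 * pw z t.2, mul_mem (hpw huQ huc _).2 (hpw F.es.mem g.rot.z_mem _).2⟩
    have φQ : ∀ t, (φ t : G) ∈ Q := fun t => mul_mem (hpw huQ huc _).1 (hpw F.es.mem g.rot.z_mem _).1
    have φinj : Function.Injective φ := by
      have hu1 : u ≠ 1 := fun e' => F.es.ne (by
        rw [hu] at e'
        exact conj_eq_one_iff.1 e')
      have huz : u * z ≠ 1 := fun e' => hune (by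
        rw [eq_inv_of_mul_eq_one_left e', F.es.zinv])
      rintro ⟨a, b⟩ ⟨a', b'⟩ e'
      have e'' : pw u a * pw z b = pw u a' * pw z b' := congrArg Subtype.val e'
      cases a <;> cases a' <;> cases b <;> cases b' <;>
        simp [pw, hu1, huz, hune, F.es.ne, Ne.symm hu1, Ne.symm huz, Ne.symm hune, Ne.symm F.es.ne] at e'' ⊢
    have hset : ∀ t, t ∈ (Qs.map f) ⊓ (Qs.map f).map (MulAut.conj (w : ↥(Subgroup.centralizer ({y} : Set G)) ⧸ N)).toMonoidHom ↔
        ∃ p, f (φ p) = t := by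
      intro t
      constructor
      · rintro ⟨⟨m, hm, rfl⟩, ⟨_, ⟨m', hm', rfl⟩, e'⟩⟩
        have hmQ : (m : G) ∈ Q := hm
        have hm'Q : (m' : G) ∈ Q := hm'
        have em : (m : G) = (w : G) * m' * (w : G)⁻¹ := congrArg Subtype.val (mk_eq E N hN
          (a := Subgroup.inclusion cen_le m) (b := w * Subgroup.inclusion cen_le m' * w⁻¹)
          e'.symm (fix4 hmQ) (by
            show ((w : G) * m' * (w : G)⁻¹) ^ 4 = 1
            rw [conj_pow, g.rot.pow_four hm'Q]
            simp))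
        obtain ⟨i, j, eij⟩ := (inter_four d huQ hune hmQ).1 (by
          rw [em]
          convert hm'Q using 1
          group)
        exact ⟨(i, j), congrArg f (Subtype.ext eij.symm)⟩
      · rintro ⟨⟨i, j⟩, rfl⟩
        refine ⟨⟨_, φQ _, rfl⟩, ?_⟩
        have hm := (inter_four d huQ hune (φQ (i, j))).2 ⟨i, j, rfl⟩
        have hm' : (w : G)⁻¹ * (φ (i, j) : G) * (w : G) ∈ cen z y :=
          g.rot.mem_cen_Q hm (g.rot.co_lt16 hm
            ((hwy.inv_left.mul_left (mem_cen.1 (φ (i, j)).2).2).mul_left hwy))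
        refine ⟨f ⟨_, hm'⟩, ⟨⟨_, hm'⟩, hm, rfl⟩, ?_⟩
        show ((w * Subgroup.inclusion cen_le ⟨_, hm'⟩ * w⁻¹ : ↥(Subgroup.centralizer ({y} : Set G))) :
          ↥(Subgroup.centralizer ({y} : Set G)) ⧸ N) = _
        refine congrArg _ (Subtype.ext ?_)
        show (w : G) * ((w : G)⁻¹ * _ * (w : G)) * (w : G)⁻¹ = _
        group
        rfl
    rw [Nat.card_congr (Equiv.subtypeEquivRight hset)]
    show Nat.card (Set.range fun a => f (φ a)) = 4
    rw [Nat.card_range_of_injective fun a b e => φinj (finj (φQ a) (φQ b) e)]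
    simp [Nat.card_eq_fintype_card]

/-- The structure of `C(y)`. -/
theorem quasisimple (hfus : ∃ c, Commute c y ∧ c * z * c⁻¹ = x) (d : Duo z Q co ac x n)
    (hU : U43Type.{u}) (K : Type) [Field K] [Fintype K] (hK : Fintype.card K = 9) :
    Cfsg.IsQuasisimple ↥(Subgroup.centralizer ({y} : Set G)) := by
  have g := E.gens
  have F := g.rot.fr
  have R := g.rot
  obtain ⟨e⟩ := quot_type E N hN hfus d hU K hK
  have hF : Fintype.card K = 3 ^ 2 := by rw [hK]; norm_num
  have hS : IsSimpleGroup (Cfsg.PSU 4 K 3) :=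
    Unitary.isSimpleGroup_PSU hF (by norm_num) (by norm_num)
  have : Nontrivial (↥(Subgroup.centralizer ({y} : Set G)) ⧸ N) := e.toEquiv.nontrivial
  have hS' : IsSimpleGroup (↥(Subgroup.centralizer ({y} : Set G)) ⧸ N) := IsSimpleGroup.isSimpleGroup_of_surjective e.symm.toMonoidHom e.symm.surjective
  have hyW : y ∈ (Subgroup.centralizer ({y} : Set G)) := Subgroup.mem_centralizer_singleton_iff.2 rfl
  have memW : ∀ {m : G}, m ∈ cen z y → m ∈ (Subgroup.centralizer ({y} : Set G)) := fun hm => cen_le hm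
  set J : (Subgroup.centralizer ({y} : Set G)) := ⟨j2, memW (E.p2.mem_j R)⟩ with hJ
  set I : (Subgroup.centralizer ({y} : Set G)) := ⟨i2, memW (E.p2.mem_i R)⟩ with hI
  obtain ⟨i4, jj, jij, -, -, -⟩ := E.p2.rel
  have hcom : (J : G) * I * (J : G)⁻¹ * (I : G)⁻¹ = z := by
    show j2 * i2 * j2⁻¹ * i2⁻¹ = z
    rw [jij, ← mul_inv_rev, E.p2.i_sq R (by decide), F.es.zinv]
  have hzN : (⟨z, memW R.z_mem⟩ : (Subgroup.centralizer ({y} : Set G))) ∉ N := fun h => by
    have := mk_eq E N hN (a := ⟨z, memW R.z_mem⟩) (b := 1)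
      ((QuotientGroup.eq_one_iff _).2 h) (R.pow_four F.es.mem) (one_pow 4)
    exact F.es.ne (congrArg Subtype.val this)
  have hzW' : (⟨z, memW R.z_mem⟩ : (Subgroup.centralizer ({y} : Set G))) ∈ commutator (Subgroup.centralizer ({y} : Set G)) := by
    have : (⟨z, memW R.z_mem⟩ : (Subgroup.centralizer ({y} : Set G))) = ⁅J, I⁆ := Subtype.ext (by
      rw [commutatorElement_def]; exact hcom.symm)
    rw [this]
    exact Subgroup.commutator_mem_commutator (Subgroup.mem_top _) (Subgroup.mem_top _)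
  have hNc : N ≤ Subgroup.center (Subgroup.centralizer ({y} : Set G)) := fun w hw => Subgroup.mem_center_iff.2 fun v => Subtype.ext (by
    obtain ⟨k, hk⟩ := (hN w).1 hw
    show (v : G) * w = w * v
    rw [← hk]
    exact ((show Commute (v : G) y from Subgroup.mem_centralizer_singleton_iff.1 v.2).zpow_right k).eq)
  have hcen : Subgroup.center (Subgroup.centralizer ({y} : Set G)) = N := by
    refine le_antisymm (fun w hw => ?_) hNc
    have hn : ((Subgroup.center (Subgroup.centralizer ({y} : Set G))).map (QuotientGroup.mk' N)).Normal :=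
      Subgroup.Normal.map inferInstance _ (QuotientGroup.mk'_surjective N)
    rcases hS'.eq_bot_or_eq_top_of_normal _ hn with h | h
    · exact (QuotientGroup.eq_one_iff w).1 (by
        have : QuotientGroup.mk' N w ∈ (Subgroup.center (Subgroup.centralizer ({y} : Set G))).map (QuotientGroup.mk' N) := ⟨w, hw, rfl⟩
        rwa [h, Subgroup.mem_bot] at this)
    · exfalso
      obtain ⟨v, hv, ev⟩ := (h.symm ▸ Subgroup.mem_top _ : QuotientGroup.mk' N J ∈ _)
      refine hzN ((QuotientGroup.eq_one_iff _).1 ?_)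
      rw [show (⟨z, memW R.z_mem⟩ : (Subgroup.centralizer ({y} : Set G))) = J * I * J⁻¹ * I⁻¹ from Subtype.ext hcom.symm]
      show QuotientGroup.mk' N (J * I * J⁻¹ * I⁻¹) = 1
      have hc : Commute (QuotientGroup.mk' N v) (QuotientGroup.mk' N I) :=
        ((show Commute v I from (Subgroup.mem_center_iff.1 hv I).symm).map (QuotientGroup.mk' N))
      rw [map_mul, map_mul, map_mul, map_inv, map_inv, ← ev, hc.eq]
      group
  have htop : (commutator (Subgroup.centralizer ({y} : Set G))).map (QuotientGroup.mk' N) = ⊤ := by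
    refine (hS'.eq_bot_or_eq_top_of_normal _
      (Subgroup.Normal.map inferInstance _ (QuotientGroup.mk'_surjective N))).resolve_left fun h => hzN ?_
    refine (QuotientGroup.eq_one_iff _).1 ?_
    have : QuotientGroup.mk' N ⟨z, memW R.z_mem⟩ ∈ (commutator (Subgroup.centralizer ({y} : Set G))).map (QuotientGroup.mk' N) :=
      ⟨_, hzW', rfl⟩
    rwa [h, Subgroup.mem_bot] at this
  have hyW' : (⟨y, hyW⟩ : (Subgroup.centralizer ({y} : Set G))) ∈ commutator (Subgroup.centralizer ({y} : Set G)) := by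
    by_contra hy
    have triv : ∀ w ∈ commutator (Subgroup.centralizer ({y} : Set G)), (w : ↥(Subgroup.centralizer ({y} : Set G)) ⧸ N) = 1 → w = 1 := fun w hw e' => by
      have hwN := (hN w).1 ((QuotientGroup.eq_one_iff w).1 e')
      obtain ⟨k, hk⟩ := (isOfFinOrder_of_finite y).mem_powers_iff_mem_zpowers.2 hwN
      have hk' : y ^ (k % 3) = (w : G) := by rw [← R.orderOf_y, pow_mod_orderOf]; exact hk
      have hlt := Nat.mod_lt k (show 3 > 0 by norm_num)
      interval_cases hm : k % 3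
      · exact Subtype.ext (by rw [← hk', pow_zero]; rfl)
      · exact absurd ((show (⟨y, hyW⟩ : (Subgroup.centralizer ({y} : Set G))) = w from Subtype.ext (by rw [← hk', pow_one])) ▸ hw) hy
      · refine absurd ?_ hy
        have : (⟨y, hyW⟩ : (Subgroup.centralizer ({y} : Set G))) = w * w := Subtype.ext (by
          rw [Subgroup.coe_mul, ← hk', ← pow_add, show 2 + 2 = 3 + 1 by norm_num, pow_succ, R.y3, one_mul])
        rw [this]
        exact mul_mem hw hw
    set Y1 : (Subgroup.centralizer ({y} : Set G)) := ⟨y1, memW (E.p1.mem_u R)⟩ with hY1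
    have hy1W' : Y1 ∈ commutator (Subgroup.centralizer ({y} : Set G)) := by
      have rz := g.zr
      have := R.finQ
      set M := Q ⊓ Subgroup.centralizer ({y} : Set G) with hM
      have h3M : ¬ 3 ∣ Nat.card M := fun hd => by
        have := hd.trans (Subgroup.card_dvd_of_le (inf_le_left : M ≤ Q))
        rw [F.card] at this
        norm_num at this
      obtain ⟨q, ⟨hqQ, hqy⟩, eq⟩ := fix_conj h3M (u := y1⁻¹) (v := r * y1 * r⁻¹)
        (by rw [inv_pow, g.o1, inv_one]) (by rw [conj_pow, g.o1]; group)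
        (fun q hq => ⟨F.norm _ g.z1.inv_left q hq.1, Subgroup.mem_centralizer_singleton_iff.2
          ((g.c1.inv_left.mul_left (Subgroup.mem_centralizer_singleton_iff.1 hq.2)).mul_left
            g.c1.inv_left.inv_left).eq⟩)
        ⟨R.same_action g.z1.inv_left ((rz.mul_left g.z1).mul_left rz.inv_left) fun k hk => by
            have h1 : rot1 k < 64 := g.a1 k hk ▸ F.ac_lt g.z1 hk
            have h2 : rot1 (rot1 k) < 64 := g.a1 _ h1 ▸ F.ac_lt g.z1 h1
            have hk' := F.ac_lt rz.inv_left hk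
            have hyi : ac y1⁻¹ k = rot1 (rot1 k) := by
              conv_lhs => rw [← (rot_cube k hk).2.1, ← g.a1 _ h2]
              exact F.ac_inv g.z1 h2
            rw [F.ac_conj g.z1 rz hk, g.a1 _ hk', g.ar _ (g.a1 _ hk' ▸ F.ac_lt g.z1 hk'), flp_inv _ hk',
              ← g.ar _ hk', F.ac_inv' rz hk, hyi],
          Subgroup.mem_centralizer_singleton_iff.2
            (g.c1.inv_left.inv_left.mul_left ((g.cr.mul_left g.c1).mul_left g.cr.inv_left)).eq⟩
      set S : (Subgroup.centralizer ({y} : Set G)) := ⟨q⁻¹ * r, Subgroup.mem_centralizer_singleton_iff.2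
        (((show Commute q y from Subgroup.mem_centralizer_singleton_iff.1 hqy).inv_left.mul_left g.cr)).eq⟩
      have : Y1 = ⁅S, Y1⁆ := Subtype.ext (by
        rw [commutatorElement_def]
        show y1 = q⁻¹ * r * y1 * (q⁻¹ * r)⁻¹ * y1⁻¹
        calc y1 = y1⁻¹ * y1⁻¹ := by
              refine (eq_inv_of_mul_eq_one_left ?_).trans (mul_inv_rev y1 y1)
              rw [← mul_assoc, ← g.o1, pow_succ, pow_two]
          _ = q⁻¹ * (q * y1⁻¹ * q⁻¹) * q * y1⁻¹ := by group
          _ = _ := by rw [eq]; group)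
      rw [this]
      exact Subgroup.commutator_mem_commutator (Subgroup.mem_top _) (Subgroup.mem_top _)
    have c1J : Commute J Y1 :=
      Subtype.ext (E.commute (a := y1) (b := j2) (by simp) (by simp)).symm.eq
    have c1I : Commute I Y1 :=
      Subtype.ext (E.commute (a := y1) (b := i2) (by simp) (by simp)).symm.eq
    have hY13 : Y1 ^ 3 = 1 := Subtype.ext g.o1
    obtain ⟨u', v', hu', hv', huv⟩ := exists_comm_of_quat hK
      (a := e (Y1 : ↥(Subgroup.centralizer ({y} : Set G)) ⧸ N)) (p := e (J : ↥(Subgroup.centralizer ({y} : Set G)) ⧸ N)) (q := e (I : ↥(Subgroup.centralizer ({y} : Set G)) ⧸ N))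
      (fun h => by
        have h1 := triv Y1 hy1W' (by rwa [← map_one e, e.injective.eq_iff] at h)
        have h3 := g.a1 3 (by norm_num)
        rw [show y1 = 1 from congrArg Subtype.val h1, F.ac_Q (one_mem Q) (by norm_num)] at h3
        exact absurd h3 (by decide))
      (by rw [← map_pow, ← QuotientGroup.mk_pow, hY13, QuotientGroup.mk_one, map_one])
      (((c1J.map (QuotientGroup.mk' N))).map e) (((c1I.map (QuotientGroup.mk' N))).map e)
      (by
        rw [← map_inv, ← map_inv, ← map_mul, ← map_mul, ← QuotientGroup.mk_inv, ← QuotientGroup.mk_inv,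
          ← QuotientGroup.mk_mul, ← QuotientGroup.mk_mul,
          show J * I * J⁻¹ = I⁻¹ from Subtype.ext jij])
      (by
        rw [← map_mul, ← map_mul, ← QuotientGroup.mk_mul, ← QuotientGroup.mk_mul,
          show J * J = I * I from Subtype.ext jj])
      (fun h => hzN (by
        rw [← map_mul, ← map_one e, e.injective.eq_iff, ← QuotientGroup.mk_mul,
          show J * J = ⟨z, memW R.z_mem⟩ from Subtype.ext (jj.trans (E.p2.i_sq R (by decide)))] at h
        exact (QuotientGroup.eq_one_iff _).1 h))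
    obtain ⟨U, hU⟩ := QuotientGroup.mk_surjective (e.symm u')
    obtain ⟨V, hV⟩ := QuotientGroup.mk_surjective (e.symm v')
    have hcU : ∀ (U : (Subgroup.centralizer ({y} : Set G))) (u' : Cfsg.PSU 4 K 3), (U : ↥(Subgroup.centralizer ({y} : Set G)) ⧸ N) = e.symm u' →
        Commute u' (e (Y1 : ↥(Subgroup.centralizer ({y} : Set G)) ⧸ N)) → Commute U Y1 := fun U u' hU hu' => by
      refine mul_inv_eq_one.1 (triv (U * Y1 * (Y1 * U)⁻¹) ?_ ?_)
      · rw [show U * Y1 * (Y1 * U)⁻¹ = ⁅U, Y1⁆ by rw [commutatorElement_def]; group]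
        exact Subgroup.commutator_mem_commutator (Subgroup.mem_top _) (Subgroup.mem_top _)
      · have := hu'.map e.symm
        rw [e.symm_apply_apply, ← hU] at this
        rw [QuotientGroup.mk_mul, QuotientGroup.mk_inv, QuotientGroup.mk_mul, QuotientGroup.mk_mul,
          this.eq, mul_inv_cancel]
    have hUV : U * V * U⁻¹ * V⁻¹ = Y1 := by
      refine mul_inv_eq_one.1 (triv _ (mul_mem ?_ (inv_mem hy1W')) ?_)
      · rw [← commutatorElement_def]
        exact Subgroup.commutator_mem_commutator (Subgroup.mem_top _) (Subgroup.mem_top _)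
      · have := congrArg e.symm huv
        rw [map_mul, map_mul, map_mul, map_inv, map_inv, ← hU, ← hV, e.symm_apply_apply] at this
        rw [QuotientGroup.mk_mul, QuotientGroup.mk_inv, QuotientGroup.mk_mul, QuotientGroup.mk_mul,
          QuotientGroup.mk_mul, QuotientGroup.mk_inv, QuotientGroup.mk_inv, this, mul_inv_cancel]
    have cU := congrArg Subtype.val (hcU U u' hU hu').eq
    have cV := congrArg Subtype.val (hcU V v' hV hv').eq
    obtain ⟨t, ht⟩ := R.exists_move_y g.z1 g.o1 g.a1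
    have tW : ∀ {a : G}, a * y1 = y1 * a → t * a * t⁻¹ ∈ (Subgroup.centralizer ({y} : Set G)) := fun {a} ha => by
      refine Subgroup.mem_centralizer_singleton_iff.2 ?_
      have := (show Commute a y1 from ha).map (MulAut.conj t).toMonoidHom
      simpa [ht] using this.eq
    refine hy ?_
    have : (⟨y, hyW⟩ : (Subgroup.centralizer ({y} : Set G))) = ⁅(⟨t * U * t⁻¹, tW cU⟩ : (Subgroup.centralizer ({y} : Set G))), ⟨t * V * t⁻¹, tW cV⟩⁆ := Subtype.ext (by
      rw [commutatorElement_def]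
      show y = t * (U : G) * t⁻¹ * (t * (V : G) * t⁻¹) * (t * (U : G) * t⁻¹)⁻¹ * (t * (V : G) * t⁻¹)⁻¹
      have hval : (U : G) * V * (U : G)⁻¹ * (V : G)⁻¹ = y1 := congrArg Subtype.val hUV
      refine ht.symm.trans ?_
      rw [← hval]
      group)
    rw [this]
    exact Subgroup.commutator_mem_commutator (Subgroup.mem_top _) (Subgroup.mem_top _)
  have hperf : commutator (Subgroup.centralizer ({y} : Set G)) = ⊤ := by
    refine eq_top_iff.2 fun w _ => ?_
    obtain ⟨v, hv, ev⟩ := (htop.symm ▸ Subgroup.mem_top _ : QuotientGroup.mk' N w ∈ _)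
    obtain ⟨k, hk⟩ := (hN _).1 (QuotientGroup.eq.1 ev)
    have : w = v * (⟨y, hyW⟩ : (Subgroup.centralizer ({y} : Set G))) ^ k := by
      rw [eq_comm, ← eq_inv_mul_iff_mul_eq]
      exact Subtype.ext (by simpa using hk)
    rw [this]
    exact mul_mem hv (zpow_mem hyW' k)
  refine ⟨Group.isPerfect_def.2 hperf, ?_⟩
  have eq := QuotientGroup.quotientMulEquivOfEq hcen
  have : Nontrivial (↥(Subgroup.centralizer ({y} : Set G)) ⧸ Subgroup.center (Subgroup.centralizer ({y} : Set G))) := eq.toEquiv.nontrivial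
  exact IsSimpleGroup.isSimpleGroup_of_surjective eq.symm.toMonoidHom eq.symm.surjective

end

/-- `C(y)` has index two in the normaliser of `⟨y⟩`. -/
theorem relIndex_two (R : Rot z Q co ac y) :
    (Subgroup.centralizer ({y} : Set G)).relIndex (Subgroup.normalizer (Subgroup.zpowers y : Set G)) = 2 := by
  obtain ⟨c, -, hc⟩ := R.exists_inverting
  set M := Subgroup.normalizer (Subgroup.zpowers y : Set G) with hM
  have hcM : c ∈ M := Subgroup.mem_normalizer_fintype fun a ha => by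
    obtain ⟨k, rfl⟩ := ha
    show c * y ^ k * c⁻¹ ∈ Subgroup.zpowers y
    rw [← conj_zpow, hc]
    exact zpow_mem (inv_mem (Subgroup.mem_zpowers y)) k
  have key : ∀ b ∈ M, b * y * b⁻¹ = y ∨ b * y * b⁻¹ = y⁻¹ := fun b hb => by
    have hm := (Subgroup.mem_normalizer_iff.1 hb y).1 (Subgroup.mem_zpowers y)
    obtain ⟨k, hk⟩ := (isOfFinOrder_of_finite y).mem_powers_iff_mem_zpowers.2 hm
    have hk' : y ^ (k % 3) = b * y * b⁻¹ := by rw [← R.orderOf_y, pow_mod_orderOf]; exact hk
    have hlt := Nat.mod_lt k (show 3 > 0 by norm_num)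
    interval_cases hm : k % 3
    · exact absurd (conj_eq_one_iff.1 ((pow_zero y).symm.trans hk').symm) R.y1
    · exact Or.inl (hk'.symm.trans (pow_one y))
    · refine Or.inr (hk'.symm.trans (eq_inv_of_mul_eq_one_left ?_))
      rw [← pow_succ]
      exact R.y3
  have hne : y⁻¹ ≠ y := fun e => R.y1 (by
    have h2 : y * y = 1 := by
      calc y * y = y⁻¹ * y := by rw [e]
        _ = 1 := inv_mul_cancel y
    calc y = y ^ 3 * (y * y)⁻¹ := by rw [pow_succ, pow_two]; group
      _ = 1 := by rw [R.y3, h2]; group)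
  refine Subgroup.index_eq_two_iff.2 ⟨⟨c, hcM⟩, fun b => ?_⟩
  have hb := key b b.2
  simp only [Subgroup.mem_subgroupOf, Subgroup.coe_mul, Subgroup.mem_centralizer_singleton_iff]
  have e1 : ((b : G) * c) * y * ((b : G) * c)⁻¹ = ((b : G) * y * (b : G)⁻¹)⁻¹ := by
    calc (b : G) * c * y * ((b : G) * c)⁻¹ = (b : G) * (c * y * c⁻¹) * (b : G)⁻¹ := by group
      _ = _ := by rw [hc]; group
  rcases hb with h | h
  · refine Or.inr ⟨mul_inv_eq_iff_eq_mul.1 h, fun h' => hne ?_⟩
    rw [← mul_inv_eq_iff_eq_mul, e1, h] at h'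
    exact h'
  · refine Or.inl ⟨mul_inv_eq_iff_eq_mul.1 (by rw [e1, h, inv_inv]), fun h' => hne ?_⟩
    rw [← mul_inv_eq_iff_eq_mul, h] at h'
    exact h'

/-- The conclusions for a subgroup equal to `C(y)`. -/
theorem final (E : Elts z Q co ac y y1 y2 r s i1 j1 i2 j2) (W : Subgroup G)
    (hW : W = Subgroup.centralizer ({y} : Set G)) (N : Subgroup W) [N.Normal]
    (hN : ∀ w, w ∈ N ↔ ((w : G) ∈ Subgroup.zpowers y)) (hfus : ∃ c, Commute c y ∧ c * z * c⁻¹ = x)
    (d : Duo z Q co ac x n) (hU : U43Type.{u}) (R : Rot z Q co ac y) (K : Type) [Field K] [Fintype K]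
    (hK : Fintype.card K = 9) (Y' : Subgroup G) (hY' : Y' = Subgroup.zpowers y) :
    Cfsg.IsQuasisimple ↥W ∧ Nonempty (↥W ⧸ N ≃* Cfsg.PSU 4 K 3) ∧
      W.relIndex (Subgroup.normalizer (Y' : Set G)) = 2 := by
  subst hW hY'
  exact ⟨quasisimple E N hN hfus d hU K hK, quot_type E N hN hfus d hU K hK, relIndex_two R⟩

/-- The statement of row 5380 from the recognition of `U₄(3)`. -/
theorem of_u43 (hU : U43Type.{u}) {G : Type u} [Group G] [Finite G] (z : G) (hz : orderOf z = 2)
    (Q : Subgroup (Subgroup.centralizer ({z} : Set G))) [Q.Normal]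
    (hF : Cfsg.generalizedFittingSubgroup (Subgroup.centralizer ({z} : Set G)) = Q)
    (hQ : Cfsg.IsExtraspecial 2 Q) (hcard : Nat.card Q = 2 ^ 7)
    (e : (Subgroup.centralizer ({z} : Set G)) ⧸ Q ≃*
      Cfsg.Omega (ZMod 2) (Cfsg.quadFormMinus 2 (ZMod 2) 1 1))
    (hnwc : ∃ g : G, (∃ hq : g * z * g⁻¹ ∈ Subgroup.centralizer ({z} : Set G),
      (⟨g * z * g⁻¹, hq⟩ : Subgroup.centralizer ({z} : Set G)) ∈ Q) ∧ g * z * g⁻¹ ≠ z)
    (Y : Subgroup (Subgroup.centralizer ({z} : Set G))) (hY : Nat.card Y = 3)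
    (hQY : Nat.card ↥⁅Q, Y⁆ = 8) (hQYna : ¬ IsMulCommutative ↥⁅Q, Y⁆)
    [((Y.map (Subgroup.subtype (Subgroup.centralizer ({z} : Set G)))).subgroupOf (Subgroup.centralizer
      ((Y.map (Subgroup.subtype (Subgroup.centralizer ({z} : Set G)))) : Set G))).Normal]
    (K : Type) [Field K] [Fintype K] (hK : Fintype.card K = 9) :
    Cfsg.IsQuasisimple ↥(Subgroup.centralizer
      ((Y.map (Subgroup.subtype (Subgroup.centralizer ({z} : Set G)))) : Set G)) ∧
    Nonempty (↥(Subgroup.centralizer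
      ((Y.map (Subgroup.subtype (Subgroup.centralizer ({z} : Set G)))) : Set G)) ⧸
      (Y.map (Subgroup.subtype (Subgroup.centralizer ({z} : Set G)))).subgroupOf (Subgroup.centralizer
        ((Y.map (Subgroup.subtype (Subgroup.centralizer ({z} : Set G)))) : Set G)) ≃* Cfsg.PSU 4 K 3) ∧
    (Subgroup.centralizer
      ((Y.map (Subgroup.subtype (Subgroup.centralizer ({z} : Set G)))) : Set G)).relIndex
      (Subgroup.normalizer
        ((Y.map (Subgroup.subtype (Subgroup.centralizer ({z} : Set G)))) : Set G)) = 2 := by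
  obtain ⟨co₀, ac₀, F₀⟩ := exists_frame z hz _ rfl Q hF hQ hcard e
  have hY' : Nat.card (Y.map (Subgroup.subtype (Subgroup.centralizer ({z} : Set G)))) = 3 := by
    rw [Subgroup.card_map_of_injective (Subgroup.subtype_injective _), hY]
  have : Fact (Nat.Prime 3) := ⟨Nat.prime_three⟩
  obtain ⟨yc, hyY, hy1⟩ : ∃ yc ∈ Y, yc ≠ 1 := by
    by_contra hcon
    push Not at hcon
    have : Y = ⊥ := (Subgroup.eq_bot_iff_forall _).2 hcon
    rw [this, Subgroup.card_bot] at hY
    norm_num at hY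
  have hy3 : yc ^ 3 = 1 := by
    have := pow_card_eq_one' (G := Y) (x := ⟨yc, hyY⟩)
    rw [hY] at this
    exact congrArg Subtype.val this
  set y : G := (yc : G) with hy
  have hy3' : y ^ 3 = 1 := congrArg Subtype.val hy3
  have hy1' : y ≠ 1 := fun e' => hy1 (Subtype.ext e')
  have hyz : Commute y z := Subgroup.mem_centralizer_singleton_iff.1 yc.2
  have hYz : Y.map (Subgroup.subtype (Subgroup.centralizer ({z} : Set G))) = Subgroup.zpowers y := by
    refine (Subgroup.eq_of_le_of_card_ge (show Subgroup.zpowers y ≤ Y.map (Subgroup.subtype (Subgroup.centralizer ({z} : Set G))) from Subgroup.zpowers_le.2 ⟨yc, hyY, rfl⟩) ?_).symm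
    rw [hY', Nat.card_zpowers, orderOf_eq_prime hy3' hy1']
  set A := (⁅Q, Y⁆).map (Subgroup.subtype (Subgroup.centralizer ({z} : Set G))) with hA
  have hAQ : A ≤ (Q.map (Subgroup.subtype (Subgroup.centralizer ({z} : Set G)))) := Subgroup.map_mono (Subgroup.commutator_le_left Q Y)
  have hAcard : Nat.card A = 8 := by rw [Subgroup.card_map_of_injective (Subgroup.subtype_injective _), hQY]
  have hAn : ∃ a ∈ A, ∃ b ∈ A, ¬ Commute a b := by
    by_contra hcon
    push Not at hcon
    refine hQYna ⟨⟨fun a b => Subtype.ext (Subtype.ext ?_)⟩⟩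
    exact (hcon _ ⟨a.1, a.2, rfl⟩ _ ⟨b.1, b.2, rfl⟩).eq
  obtain ⟨co, ac, F, hyr⟩ := exists_frame_rot F₀ hyz hy3' hy1' hAQ hAcard hAn (by
    rintro _ ⟨q, hq, rfl⟩
    refine ⟨⁅q, yc⁆, Subgroup.commutator_mem_commutator hq hyY, ?_⟩
    rw [commutatorElement_def]
    rfl)
  have R : Rot z (Q.map (Subgroup.subtype (Subgroup.centralizer ({z} : Set G)))) co ac y := ⟨F, hyz, hy3', hy1', hyr⟩
  obtain ⟨y1, y2, r, s, g⟩ := R.exists_gens
  obtain ⟨i1, j1, i2, j2, E⟩ := g.exists_elts
  obtain ⟨gc, ⟨hgC, hgQ⟩, hgne⟩ := hnwc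
  obtain ⟨x, n, d⟩ := F.exists_duo ⟨gc, ⟨_, hgQ, rfl⟩, hgne⟩
  have hfus := exists_fusion g d
  have hcent : Subgroup.centralizer ((Y.map (Subgroup.subtype (Subgroup.centralizer ({z} : Set G))) : Subgroup G) : Set G) =
      Subgroup.centralizer ({y} : Set G) := by
    rw [hYz, Subgroup.zpowers_eq_closure, Subgroup.centralizer_closure]
  exact final E _ hcent _ (fun w => Subgroup.mem_subgroupOf.trans
    (iff_of_eq (congrArg (fun H : Subgroup G => (w : G) ∈ H) hYz))) hfus d hU R K hK _ hYz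

end Cfsg.Agent.Lib.SuzCent37
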