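import Cfsg.Agent.Lib.SuzType52.Frame

/-!
# The centraliser of a rotation of an elliptic plane in the coded space, by computation

`rot0` rotates the plane `16, 32, 48` and fixes its perpendicular, the numbers below `16`, which is the sum of
the two elliptic planes `3, 13, 14` and `12, 7, 11` rotated by `rot1` and `rot2`.

Owner: helper37.
-/

set_option autoImplicit false
set_option maxRecDepth 100000

namespace Cfsg.Agent.Lib.SuzCent37

open Cfsg.Agent.Lib.SuzType52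

/-- The rotation of the plane `16, 32, 48`. -/
def rot0 (k : ℕ) : ℕ := lin 1 2 4 8 32 48 k

/-- The rotation of the plane `3, 13, 14`. -/
def rot1 (k : ℕ) : ℕ := lin 2 15 10 6 16 32 k

/-- The rotation of the plane `12, 7, 11`. -/
def rot2 (k : ℕ) : ℕ := lin 10 9 8 15 16 32 k

/-- A reflection in each of the small planes. -/
def flp (k : ℕ) : ℕ := lin 2 1 8 4 16 32 k

/-- The exchange of the small planes. -/
def swq (k : ℕ) : ℕ := lin 4 8 1 2 16 32 k

/-- A map carrying `rot1` to `rot0`. -/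
def mov (k : ℕ) : ℕ := lin 28 44 59 55 14 13 k

/-- Iterates below four. -/
def it (f : ℕ → ℕ) : ℕ → ℕ → ℕ
  | 0, k => k
  | n + 1, k => f (it f n k)

/-- The elements of the centraliser of `rot0`. -/
def wrd (i j l a b : ℕ) (k : ℕ) : ℕ := it rot0 i (it rot1 j (it rot2 l (it flp a (it swq b k))))

/-- The indices. -/
def idx : List (ℕ × ℕ × ℕ × ℕ × ℕ) :=
  (List.range 3).flatMap fun i => (List.range 3).flatMap fun j => (List.range 3).flatMap fun l =>
    (List.range 2).flatMap fun a => (List.range 2).map fun b => (i, j, l, a, b)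

/-- The word with an index. -/
def wd (t : ℕ × ℕ × ℕ × ℕ × ℕ) (k : ℕ) : ℕ := wrd t.1 t.2.1 t.2.2.1 t.2.2.2.1 t.2.2.2.2 k

theorem idx_nodup : idx.Nodup := by decide +kernel

theorem idx_length : idx.length = 108 := by decide +kernel

theorem mem_idx {t : ℕ × ℕ × ℕ × ℕ × ℕ} : t ∈ idx ↔
    t.1 < 3 ∧ t.2.1 < 3 ∧ t.2.2.1 < 3 ∧ t.2.2.2.1 < 2 ∧ t.2.2.2.2 < 2 := by
  obtain ⟨i, j, l, a, b⟩ := t
  simp [idx]

theorem gens_pr : ∀ k < 64, rot1 k = pr (3, 13) k ∧ rot2 k = pr (12, 7) k ∧ flp k = pr (3, 12) k ∧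
    swq k = pr (16, 21) (pr (26, 31) k) ∧ mov k = pr (3, 17) (pr (34, 63) k) ∧
    rot0 k = pr (16, 32) k := by
  decide +kernel

theorem gens_comm : ∀ k < 64, rot1 (rot0 k) = rot0 (rot1 k) ∧ rot2 (rot0 k) = rot0 (rot2 k) ∧
    flp (rot0 k) = rot0 (flp k) ∧ swq (rot0 k) = rot0 (swq k) ∧ rot2 (rot1 k) = rot1 (rot2 k) ∧
    mov (rot1 k) = rot0 (mov k) := by
  decide +kernel

theorem rot0_fixed : ∀ k < 64, rot0 k = k ↔ k < 16 := by decide +kernel

theorem rot0_basis : ∀ k < 16, bn k 16 = false ∧ bn k 32 = false := by decide +kernel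

theorem pr_inv : ∀ k < 64, pr (16, 12) (rot0 k) = rot0 (rot0 (pr (16, 12) k)) := by decide +kernel

theorem flp_inv : ∀ k < 64, flp (rot1 k) = rot1 (rot1 (flp k)) := by decide +kernel

theorem pair_16_12 : ((16, 12) : ℕ × ℕ) ∈ pairs4 := by decide +kernel

theorem rot_cube : ∀ k < 64, rot0 (rot0 (rot0 k)) = k ∧ rot1 (rot1 (rot1 k)) = k ∧
    rot2 (rot2 (rot2 k)) = k := by decide +kernel

theorem rot_images : rot1 3 = 13 ∧ rot1 13 = 14 ∧ rot1 12 = 12 ∧ rot1 7 = 7 ∧ rot1 16 = 16 ∧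
    rot1 32 = 32 ∧ rot2 12 = 7 ∧ rot2 7 = 11 ∧ rot2 3 = 3 ∧ rot2 13 = 13 ∧ rot2 16 = 16 ∧
    rot2 32 = 32 ∧ rot0 16 = 32 ∧ rot0 3 = 3 ∧ rot0 13 = 13 := by decide +kernel

/-- The first small plane. -/
def pl1 : List ℕ := [0, 3, 13, 14]

/-- The second small plane. -/
def pl2 : List ℕ := [0, 12, 7, 11]

theorem planes_cover : ∀ k < 16, ∃ a ∈ pl1, ∃ b ∈ pl2, k = a ^^^ b := by decide +kernel

theorem planes_perp : ∀ k < 16, bn k 3 = false → bn k 13 = false → bn k 12 = false →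
    bn k 7 = false → k = 0 := by decide +kernel

/-- The image of the basis `1, 2, 4, 8, 16, 32` from that of `16, 3, 13, 12, 7`. -/
def ext5 (g a b c d : ℕ) (k : ℕ) : ℕ :=
  lin (b ^^^ c) (a ^^^ b ^^^ c) (d ^^^ a) (c ^^^ d ^^^ a) g (rot0 g) k

/-- The nonsingular vectors below sixteen. -/
def ns16 : List ℕ := [3, 7, 11, 12, 13, 14]

theorem mem_ns16 : ∀ k < 16, qn k = true → k ∈ ns16 := by decide +kernel

theorem mem_plane : ∀ k < 64, k ^^^ rot0 k = 0 ∨ k ^^^ rot0 k ∈ [16, 32, 48] := by decide +kernel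

theorem wd_complete_aux : ([16, 32, 48].all fun g => ns16.all fun a => ns16.all fun b =>
    !(bn a b) || ns16.all fun c => bn a c || bn b c || ns16.all fun d =>
    bn a d || bn b d || !(bn c d) ||
      idx.any fun t => (Nat.beq (wd t 16) g && (Nat.beq (wd t 3) a && Nat.beq (wd t 13) b &&
          Nat.beq (wd t 12) c && Nat.beq (wd t 7) d)) ||
        (Nat.beq (wd t 16) g && (Nat.beq (wd t (refl 3 3)) a && Nat.beq (wd t (refl 3 13)) b &&
          Nat.beq (wd t (refl 3 12)) c && Nat.beq (wd t (refl 3 7)) d))) = true := by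
  decide +kernel

theorem wd_ext : ∀ t ∈ idx, ∀ k ∈ [1, 2, 4, 8, 16, 32],
    ext5 (wd t 16) (wd t 3) (wd t 13) (wd t 12) (wd t 7) k = wd t k ∧
      ext5 (wd t (refl 3 16)) (wd t (refl 3 3)) (wd t (refl 3 13)) (wd t (refl 3 12))
        (wd t (refl 3 7)) k = wd t (refl 3 k) := by decide +kernel

theorem wd_inj : ∀ t ∈ idx, ∀ u ∈ idx, wd t 16 = wd u 16 → wd t 3 = wd u 3 → wd t 13 = wd u 13 →
    wd t 12 = wd u 12 → wd t 7 = wd u 7 → t = u := by decide +kernel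

/-- Squares commute with the small rotations. -/
theorem wd_sq : ∀ t ∈ idx, ∀ k ∈ [1, 2, 4, 8, 16, 32],
    wd t (wd t (rot1 k)) = rot1 (wd t (wd t k)) ∧ wd t (wd t (rot2 k)) = rot2 (wd t (wd t k)) := by
  decide +kernel

/-- The centraliser of the small rotations. -/
theorem wd_cent : ∀ t ∈ idx, (∀ k ∈ [3, 13, 12, 7], wd t (rot1 k) = rot1 (wd t k) ∧
    wd t (rot2 k) = rot2 (wd t k)) → t.2.2.2.1 = 0 ∧ t.2.2.2.2 = 0 := by decide +kernel

/-- The centraliser of the first small rotation. -/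
theorem wd_cent1 : ∀ t ∈ idx, (∀ k ∈ [3, 13, 12, 7], wd t (rot1 k) = rot1 (wd t k)) →
    t.2.2.2.1 = 0 ∧ t.2.2.2.2 = 0 := by decide +kernel

/-- Conjugates of the first small rotation. -/
theorem wd_rot1 : ∀ t ∈ idx, ∃ j < 3, ∃ l < 3, ∀ k ∈ [1, 2, 4, 8, 16, 32],
    wd t (rot1 k) = wrd 0 j l 0 0 (wd t k) := by decide +kernel

/-- The stabiliser of the small planes pointwise. -/
theorem wd_fix : ∀ t ∈ idx, (∀ k ∈ [3, 13, 12, 7], wd t k = k) →
    t.2.1 = 0 ∧ t.2.2.1 = 0 ∧ t.2.2.2.1 = 0 ∧ t.2.2.2.2 = 0 := by decide +kernel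

/-- The stabiliser of the point: fourth powers lie in the rotations of the big plane. -/
theorem wd_one : ∀ t ∈ idx, wd t 1 = 1 → ∃ i < 3, ∀ k ∈ [1, 2, 4, 8, 16, 32],
    wd t (wd t (wd t (wd t k))) = it rot0 i k := by decide +kernel

/-- Zero and the nonsingular vectors. -/
def nsv : List ℕ := [0, 3, 7, 11, 12, 13, 14, 16, 17, 18, 20, 21, 22, 24, 25, 26, 31, 32, 33, 34, 36, 37,
  38, 40, 41, 42, 47, 48, 49, 50, 52, 53, 54, 56, 57, 58, 63]

theorem first_step : ∀ p < 64, qn p = true → ∃ a ∈ nsv, ∃ b ∈ nsv, refl a (refl b p) = 16 := by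
  decide +kernel

theorem second_step : ∀ q < 64, qn q = true → bn 16 q = true → ∃ a ∈ nsv, ∃ b ∈ nsv,
    refl a (refl b 16) = 16 ∧ refl a (refl b q) = 32 := by decide +kernel

theorem nsv_spec : ∀ a ∈ nsv, a < 64 ∧ (qn a = true ∨ a = 0) := by decide +kernel

end Cfsg.Agent.Lib.SuzCent37
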